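import Cfsg.Agent.H774.SP.M22
import Cfsg.Agent.H337.JankoOfIso
import Cfsg.Agent.S5563
import Cfsg.Agent.KFacts.J4.SheetJ4

/-!
# S4876, `p = 3`: the row `J4` (helper774)

The centralizer `6.M22` of an element of order 3 has `l(B₀) ≥ 5`.
-/

set_option autoImplicit false

open Cfsg Subgroup

namespace Cfsg.Agent.H774.SP.J4

open Cfsg.Agent.H61.K6 Cfsg.Agent.H820.K6

universe u

/-- a simple group of order divisible by 2 and 3 is not abelian -/
theorem not_comm {X : Type*} [Group X] [Finite X] [IsSimpleGroup X] (h2 : 2 ∣ Nat.card X) (h3 : 3 ∣ Nat.card X) :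
    ∃ a b : X, a * b ≠ b * a := by
  by_contra hcon
  push Not at hcon
  let _ : CommGroup X := { (inferInstance : Group X) with mul_comm := hcon }
  have hp := IsSimpleGroup.prime_card (α := X)
  have e2 := (Nat.prime_dvd_prime_iff_eq Nat.prime_two hp).1 h2
  have e3 := (Nat.prime_dvd_prime_iff_eq Nat.prime_three hp).1 h3
  omega

theorem krow : KRow.{u, 0} 3 Spor.J4 := by
  classical
  have h3 : Fact (Nat.Prime 3) := ⟨Nat.prime_three⟩
  obtain ⟨hfin, hs, ⟨F⟩⟩ := Cfsg.Agent.KFacts.J4.Base.exists_full (K := Spor.J4) ⟨MulEquiv.refl _⟩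
  obtain ⟨z, P, hJ⟩ := H337.isOfJankoFourType_of_isoJ4 (G := Spor.J4) ⟨MulEquiv.refl _⟩
  have hcardP : Nat.card P = 3 := hJ.2.2.2.2.2.1
  have hz : orderOf z = 2 := hJ.1
  have hd2 : 2 ∣ Nat.card Spor.J4 := hz ▸ orderOf_dvd_natCard z
  have hd3 : 3 ∣ Nat.card Spor.J4 := hcardP ▸ card_subgroup_dvd_card P
  have hna := not_comm hd2 hd3
  have hG : ¬ IsMulCommutative Spor.J4 := by
    intro h
    obtain ⟨a, b, hab⟩ := hna
    exact hab (h.is_comm.comm a b)
  obtain ⟨-, -, -, ⟨e⟩, hN⟩ := S5563.result hG z P hJ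
  -- the generator
  obtain ⟨x, hx, hx1⟩ : ∃ x ∈ P, x ≠ 1 := by
    by_contra hcon
    push Not at hcon
    have h1 : P = ⊥ := by
      rw [eq_bot_iff]
      exact fun y hy => mem_bot.2 (hcon y hy)
    rw [h1, card_bot] at hcardP
    norm_num at hcardP
  have hox : orderOf x = 3 := by
    have h1 : orderOf x ∣ 3 := by
      rw [← hcardP]
      have := orderOf_dvd_natCard (⟨x, hx⟩ : P)
      rwa [orderOf_mk] at this
    rcases (Nat.dvd_prime Nat.prime_three).1 h1 with h | h
    · exact absurd (orderOf_eq_one_iff.1 h) hx1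
    · exact h
  have hzp : zpowers x = P := by
    refine eq_of_le_of_card_ge (by rwa [zpowers_le]) ?_
    rw [Nat.card_zpowers, hox, hcardP]
  have hcP : centralizer ({x} : Set Spor.J4) = centralizer (P : Set Spor.J4) := by
    rw [← hzp, zpowers_eq_closure, centralizer_closure]
  have hD : centralizer ({x} : Set Spor.J4) = centralizer ({z} : Set Spor.J4) ⊓ centralizer (P : Set Spor.J4) := by
    rw [hcP]
    refine le_antisymm (le_inf (le_trans ?_ hN) le_rfl) inf_le_right
    exact centralizer_le_normalizer (P : Set Spor.J4)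
  let D : Subgroup Spor.J4 := centralizer ({z} : Set Spor.J4) ⊓ centralizer (P : Set Spor.J4)
  let φ : ↥(centralizer ({x} : Set Spor.J4)) →* Spor.M22 :=
    e.toMonoidHom.comp ((QuotientGroup.mk' (center D)).comp (MulEquiv.subgroupCongr hD).toMonoidHom)
  have hφ : Function.Surjective φ :=
    e.surjective.comp ((QuotientGroup.mk'_surjective _).comp (MulEquiv.subgroupCongr hD).surjective)
  have hw : WX 3 x 5 := fun M hM => (M22.rank_M22 hM).trans (rank_le_of_surj hM φ hφ)
  refine KGe.of_complete (fun σ => ?_) fun M hM => ?_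
  · obtain ⟨k, hk⟩ := Cfsg.Agent.KFacts.J4.SheetJ4.inner F σ
    exact ⟨k, fun y => by rw [hk]; rfl⟩
  · refine card_ge (n := 7) (m := 2) {x} (fun y hy => ?_) (fun y hy y' hy' _ => ?_) (fun _ => 5) (fun y hy => ?_) hM ?_ ?_
    · rw [Finset.mem_singleton.1 hy]
      exact ⟨⟨1, by rw [hox, pow_one]⟩, hx1⟩
    · rw [Finset.mem_singleton.1 hy, Finset.mem_singleton.1 hy']
    · rw [Finset.mem_singleton.1 hy]
      exact hw
    · exact two_le_rank hM (not_compl_of_simple hna hd3)
    · simp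

/-- **The row `J4`, `p = 3`.** -/
theorem row_j4 {X : Type*} [Group X] (h : Spor.IsoJ4 X) : KRow.{u} 3 X := by
  obtain ⟨e⟩ := h
  exact KRow.congr e.symm krow

end Cfsg.Agent.H774.SP.J4
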