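import Cfsg.Agent.CpAutLy.Row
import Cfsg.Agent.H121.K6.Tools
import Cfsg.Agent.H820.K6.Loc

/-!
# S4876, `p = 3`: the row `Ly` (helper774)

Three elements of the centralizer `2.A11` of an involution: types `3`, `3^2` (weight 2) and `9` (weight 1).
-/

set_option autoImplicit false

open Cfsg Subgroup Equiv

namespace Cfsg.Agent.H774.SP.Ly

open Cfsg.Agent.H61.K6 Cfsg.Agent.H820.K6 Cfsg.Agent.SporRec.TwoAn Cfsg.Agent.TypeM.Two
open Cfsg.Agent.CpAutLy.Types Cfsg.Agent.CpAutLy.Cov Cfsg.Agent.CpAutLy.McLThree Cfsg.Agent.CpAutLy.Base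
open Cfsg.Agent.CpAutLy.Row Cfsg.Agent.TypeM.McLFromLy

universe u

/-- `C(x₀)` has one class of involutions -/
theorem one_class {x₀ : Spor.Ly} (h : Three x₀) {s s' : Spor.Ly} (hs : orderOf s = 2) (hs' : orderOf s' = 2)
    (hsx : s * x₀ = x₀ * s) (hsx' : s' * x₀ = x₀ * s') : ∃ c : Spor.Ly, c * x₀ = x₀ * c ∧ c * s * c⁻¹ = s' := by
  obtain ⟨-, -, -, ⟨L⟩⟩ := TypeM.FactsMcL.facts h.quot
  let H := centralizer ({x₀} : Set Spor.Ly)
  have hz3 : ∀ z : H, z ∈ center H → z ^ 3 = 1 := by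
    intro z hz
    have h1 : (⟨z, hz⟩ : center H) ^ Nat.card (center H) = 1 := pow_card_eq_one'
    rw [h.zcard] at h1
    exact congrArg Subtype.val h1
  have key : ∀ a : H, orderOf (a : Spor.Ly) = 2 →
      ((a : H ⧸ center H) * (a : H ⧸ center H) = 1 ∧ (a : H ⧸ center H) ≠ 1) := by
    intro a ha
    have h2 : a * a = 1 := Subtype.ext (MT.sq_of_orderOf ha).1
    refine ⟨by rw [← QuotientGroup.mk_mul, h2, QuotientGroup.mk_one], fun h1 => ?_⟩
    have h3 := hz3 a ((QuotientGroup.eq_one_iff a).1 h1)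
    apply (MT.sq_of_orderOf ha).2
    have h4 : a = 1 := by
      calc a = a ^ 3 * (a * a)⁻¹ := by group
        _ = 1 := by rw [h3, h2, inv_one, mul_one]
    rw [h4]
    rfl
  let a : H := ⟨s, mem_centralizer_singleton_iff.2 hsx⟩
  let b : H := ⟨s', mem_centralizer_singleton_iff.2 hsx'⟩
  obtain ⟨q, hq⟩ := L.conj_of_involutions (key a hs).1 (key a hs).2 (key b hs').1 (key b hs').2
  obtain ⟨c, rfl⟩ := QuotientGroup.mk_surjective q
  have ha2 : a * a = 1 := Subtype.ext (MT.sq_of_orderOf hs).1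
  have hb2 : b * b = 1 := Subtype.ext (MT.sq_of_orderOf hs').1
  have hz : (c * a * c⁻¹)⁻¹ * b ∈ center H := by
    rw [← QuotientGroup.eq_one_iff, QuotientGroup.mk_mul, QuotientGroup.mk_inv, QuotientGroup.mk_mul,
      QuotientGroup.mk_mul, QuotientGroup.mk_inv, hq, inv_mul_cancel]
  set z : H := (c * a * c⁻¹)⁻¹ * b with hzdef
  have hb : b = (c * a * c⁻¹) * z := by rw [hzdef]; group
  have hcomm : z * (c * a * c⁻¹) = (c * a * c⁻¹) * z := (mem_center_iff.1 hz _).symm
  have hz2 : z * z = 1 := by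
    have h1 : b * b = (c * (a * a) * c⁻¹) * (z * z) := by
      calc b * b = (c * a * c⁻¹) * z * ((c * a * c⁻¹) * z) := by rw [← hb]
        _ = (c * a * c⁻¹) * (z * (c * a * c⁻¹)) * z := by group
        _ = (c * a * c⁻¹) * ((c * a * c⁻¹) * z) * z := by rw [hcomm]
        _ = _ := by group
    rw [hb2, ha2] at h1
    rw [h1]
    group
  have hz1 : z = 1 := by
    calc z = z ^ 3 * (z * z)⁻¹ := by group
      _ = 1 := by rw [hz3 z hz, hz2, inv_one, mul_one]
  rw [hz1, mul_one] at hb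
  exact ⟨c, mem_centralizer_singleton_iff.1 c.2, (congrArg Subtype.val hb).symm⟩

/-! ### permutations -/

def d4 : Perm (Fin 11) := swap 6 7 * swap 7 8
def d9 : Perm (Fin 11) := swap 0 1 * swap 1 2 * swap 2 3 * swap 3 4 * swap 4 5 * swap 5 6 * swap 6 7 * swap 7 8
def n1 : Perm (Fin 11) := swap 3 4 * swap 6 7
def n2 : Perm (Fin 11) := swap 6 7 * swap 9 10

theorem comm_12 : c1 * c2 = c2 * c1 := by decide +kernel
theorem comm_n1 : n1 * c1 = c1 * n1 := by decide +kernel
theorem inv_n1 : n1 * c2 * n1⁻¹ = c2⁻¹ := by decide +kernel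
theorem cube_d4 : d4 ^ 3 = 1 := by decide +kernel
theorem d4_ne : d4 ≠ 1 := by decide +kernel
theorem comm_d4 : d4 * (c1 * c2) = (c1 * c2) * d4 := by decide +kernel
theorem comm_n2 : n2 * (c1 * c2) = (c1 * c2) * n2 := by decide +kernel
theorem inv_n2 : n2 * d4 * n2⁻¹ = d4⁻¹ := by decide +kernel
theorem cube_c12 : (c1 * c2) ^ 3 = 1 := by decide +kernel
theorem nine_d9 : d9 ^ 9 = 1 := by decide +kernel
theorem d9_ne : d9 ^ 3 ≠ 1 := by decide +kernel

section

variable {C : Type*} [Group C] (K : Cover (Fin 11) C)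

/-- lifts -/
theorem exists_pair {p q m : Perm (Fin 11)} (hp : p ^ 3 = 1) (hq : q ^ 3 = 1) (hq1 : q ≠ 1)
    (hm : m ∈ alternatingGroup (Fin 11)) (hqp : q * p = p * q) (hmp : m * p = p * m) (hmq : m * q * m⁻¹ = q⁻¹) :
    ∃ x y n : C, K.π x = p ∧ x ^ 3 = 1 ∧ y ^ 3 = 1 ∧ y ≠ 1 ∧ y * x = x * y ∧ n * x = x * n ∧ n * y * n⁻¹ = y⁻¹ := by
  obtain ⟨x, hx, hx3⟩ := K.exists_odd_lift (even_of_odd (by decide : Odd 3) hp) (by decide : Odd 3) hp
  obtain ⟨y, hy, hy3⟩ := K.exists_odd_lift (even_of_odd (by decide : Odd 3) hq) (by decide : Odd 3) hq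
  obtain ⟨n, hn⟩ := K.exists_lift hm
  refine ⟨x, y, n, hx, hx3, hy3, ?_, ?_, ?_, ?_⟩
  · rintro rfl
    rw [map_one] at hy
    exact hq1 hy.symm
  · exact K.commute_of_odd (by decide : Odd 3) hy3 (by rw [hx, hy, hqp])
  · exact (K.commute_of_odd (by decide : Odd 3) hx3 (by rw [hx, hn, hmp])).symm
  · refine K.odd_lift_unique (by decide : Odd 3) ?_ ?_ ?_
    · rw [conj_pow, hy3, mul_one, mul_inv_cancel]
    · rw [inv_pow, hy3, inv_one]
    · rw [map_mul, map_mul, map_inv, map_inv, hn, hy, hmq]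

end

/-- weight 2 -/
theorem wx_inv {X : Type*} [Group X] [Finite X] {x y n : X} (hyx : y * x = x * y) (hnx : n * x = x * n)
    (hy : y ^ 3 = 1) (hy1 : y ≠ 1) (h : n * y * n⁻¹ = y⁻¹) : WX 3 x 2 := by
  have h3 : Fact (Nat.Prime 3) := ⟨Nat.prime_three⟩
  refine WX.two (Cfsg.Agent.H121.K6.not_compl_of_inv Nat.prime_three (by norm_num) (k := 1)
    (y := (⟨y, mem_centralizer_singleton_iff.2 hyx⟩ : centralizer ({x} : Set X)))
    (n := (⟨n, mem_centralizer_singleton_iff.2 hnx⟩ : centralizer ({x} : Set X))) ?_ ?_ ?_)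
  · rw [pow_one]
    exact Subtype.ext hy
  · exact fun h1 => hy1 (congrArg Subtype.val h1)
  · exact Subtype.ext h

theorem krow : KRow.{u, 0} 3 Spor.Ly := by
  classical
  have hfin : Finite Spor.Ly := Cfsg.Agent.Ly.Setup.finite_ly
  have h3 : Fact (Nat.Prime 3) := ⟨Nat.prime_three⟩
  obtain ⟨x₀, h₀⟩ := exists_three
  obtain ⟨L⟩ := TypeM.FactsLy.exists_mt_ly
  obtain ⟨x1, y1, m1, e1, o1, p1, q1, r1, s1, t1⟩ := exists_pair L.K cube_c1 cube_c2 c2_ne
    (Cover.swap_mul_swap_mem 3 4 6 7 (by decide) (by decide)) comm_12.symm comm_n1 inv_n1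
  obtain ⟨x2, y2, m2, e2, o2, p2, q2, r2, s2, t2⟩ := exists_pair L.K cube_c12 cube_d4 d4_ne
    (Cover.swap_mul_swap_mem 6 7 9 10 (by decide) (by decide)) comm_d4 comm_n2 inv_n2
  obtain ⟨w, hw, hw9⟩ := L.K.exists_odd_lift (even_of_odd (by decide : Odd 9) nine_d9) (by decide : Odd 9) nine_d9
  have hx1 : x1 ≠ 1 := by
    rintro rfl
    rw [map_one] at e1
    exact absurd e1 (by decide +kernel)
  have hx2 : x2 ≠ 1 := by
    rintro rfl
    rw [map_one] at e2
    exact absurd e2 (by decide +kernel)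
  have oo1 : orderOf (x1 : Spor.Ly) = 3 := by rw [Subgroup.orderOf_coe]; exact orderOf_eq_prime o1 hx1
  have oo2 : orderOf (x2 : Spor.Ly) = 3 := by rw [Subgroup.orderOf_coe]; exact orderOf_eq_prime o2 hx2
  have oow : orderOf (w : Spor.Ly) = 9 := by
    rw [Subgroup.orderOf_coe]
    refine orderOf_eq_prime_pow (p := 3) (n := 1) ?_ (by simpa using hw9)
    intro h
    apply d9_ne
    rw [← hw, ← map_pow, show w ^ 3 = 1 by simpa using h, map_one]
  have tx1 : L.t * (x1 : Spor.Ly) = x1 * L.t := (L.mem_iff.1 x1.2).symm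
  have tx2 : L.t * (x2 : Spor.Ly) = x2 * L.t := (L.mem_iff.1 x2.2).symm
  have hn1 : nn (x1 : Spor.Ly) L.t = 120960 := by
    have hxc : xc tx1 = x1 := rfl
    rcases Cfsg.Agent.CpAutLy.Types.cases L oo1 tx1 with h0 | h0 | h0
    · exact h0.2
    · exfalso
      have h3 := h0.1
      rw [hxc, e1, type_c1] at h3
      revert h3
      decide
    · exfalso
      have h3 := h0.1
      rw [hxc, e1, type_c1] at h3
      revert h3
      decide
  have hn2 : nn (x2 : Spor.Ly) L.t = 2160 := by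
    have hxc : xc tx2 = x2 := rfl
    rcases Cfsg.Agent.CpAutLy.Types.cases L oo2 tx2 with h0 | h0 | h0
    · exfalso
      have h3 := h0.1
      rw [hxc, e2, type_c12] at h3
      revert h3
      decide
    · exact h0.2
    · exfalso
      have h3 := h0.1
      rw [hxc, e2, type_c12] at h3
      revert h3
      decide
  have hne : ¬ IsConj (x2 : Spor.Ly) x1 := by
    intro hc
    obtain ⟨g, hg⟩ := isConj_iff.1 hc
    obtain ⟨s, hs, hsx, hsn⟩ := exists_base_nn h₀
    obtain ⟨k, hk⟩ := exists_conj_of_nn L oo1 L.orderOf_t tx1 hn1 h₀.ord hs hsx hsn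
    have hk2 : (k * g) * x2 * (k * g)⁻¹ = x₀ := by rw [← hk, ← hg]; group
    have hto : orderOf ((k * g) * L.t * (k * g)⁻¹) = 2 := by rw [orderOf_conj', L.orderOf_t]
    have htc : ((k * g) * L.t * (k * g)⁻¹) * x₀ = x₀ * ((k * g) * L.t * (k * g)⁻¹) := by
      rw [← hk2]
      exact conj_comm _ tx2
    obtain ⟨c, hcx, hcs⟩ := one_class h₀ hs hto hsx htc
    have h1 : nn x₀ ((k * g) * L.t * (k * g)⁻¹) = 2160 := by
      conv_lhs => rw [← hk2]
      rw [nn_conj, hn2]
    have h2 : nn (c * x₀ * c⁻¹) (c * s * c⁻¹) = 120960 := by rw [nn_conj, hsn]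
    rw [hcs, hcx, mul_inv_cancel_right, h1] at h2
    omega
  have hna : ∃ a b : Spor.Ly, a * b ≠ b * a := TypeM.OutLyFin.not_comm (by norm_num) L
  have hs : IsSimpleGroup Spor.Ly := Cfsg.Agent.Ly.Setup.isSimple_ly
  have hd3 : 3 ∣ Nat.card Spor.Ly := oo1 ▸ orderOf_dvd_natCard (x1 : Spor.Ly)
  have w1 : WX 3 (x1 : Spor.Ly) 2 := wx_inv (congrArg Subtype.val r1) (congrArg Subtype.val s1)
    (congrArg Subtype.val p1) (fun h => q1 (Subtype.ext h)) (congrArg Subtype.val t1)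
  have w2 : WX 3 (x2 : Spor.Ly) 2 := wx_inv (congrArg Subtype.val r2) (congrArg Subtype.val s2)
    (congrArg Subtype.val p2) (fun h => q2 (Subtype.ext h)) (congrArg Subtype.val t2)
  have ne12 : (x2 : Spor.Ly) ≠ x1 := fun h => hne (by rw [h])
  have ne1w : (x1 : Spor.Ly) ≠ w := fun h => by rw [h, oow] at oo1; norm_num at oo1
  have ne2w : (x2 : Spor.Ly) ≠ w := fun h => by rw [h, oow] at oo2; norm_num at oo2
  have horder : ∀ {a b : Spor.Ly}, IsConj a b → orderOf a = orderOf b := by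
    intro a b h
    obtain ⟨g, hg⟩ := isConj_iff.1 h
    rw [← hg, orderOf_conj']
  refine KGe.of_complete (fun σ => ?_) fun M hM => ?_
  · obtain ⟨k, hk⟩ := TypeM.OutLyFin.inner_ly σ
    exact ⟨k, fun y => by rw [← hk]; rfl⟩
  · refine card_ge (n := 7) (m := 2) {(x1 : Spor.Ly), (x2 : Spor.Ly), (w : Spor.Ly)} (fun y hy => ?_)
      (fun y hy y' hy' hc => ?_) (fun x => if x = w then 1 else 2) (fun y hy => ?_) hM ?_ ?_
    · simp only [Finset.mem_insert, Finset.mem_singleton] at hy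
      rcases hy with rfl | rfl | rfl
      · exact ⟨⟨1, by rw [oo1, pow_one]⟩, fun h => by rw [h, orderOf_one] at oo1; norm_num at oo1⟩
      · exact ⟨⟨1, by rw [oo2, pow_one]⟩, fun h => by rw [h, orderOf_one] at oo2; norm_num at oo2⟩
      · exact ⟨⟨2, by rw [oow]; norm_num⟩, fun h => by rw [h, orderOf_one] at oow; norm_num at oow⟩
    · simp only [Finset.mem_insert, Finset.mem_singleton] at hy hy'
      rcases hy with rfl | rfl | rfl <;> rcases hy' with rfl | rfl | rfl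
      · rfl
      · exact absurd hc.symm hne
      · have := horder hc; rw [oo1, oow] at this; norm_num at this
      · exact absurd hc hne
      · rfl
      · have := horder hc; rw [oo2, oow] at this; norm_num at this
      · have := horder hc; rw [oo1, oow] at this; norm_num at this
      · have := horder hc; rw [oo2, oow] at this; norm_num at this
      · rfl
    · simp only [Finset.mem_insert, Finset.mem_singleton] at hy
      rcases hy with rfl | rfl | rfl
      · rw [if_neg ne1w]; exact w1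
      · rw [if_neg ne2w]; exact w2
      · rw [if_pos rfl]; exact WX.one _
    · exact two_le_rank hM (not_compl_of_simple hna hd3)
    · have a1 : (x2 : Spor.Ly) ∉ ({(w : Spor.Ly)} : Finset Spor.Ly) := by
        rw [Finset.mem_singleton]
        exact ne2w
      have a2 : (x1 : Spor.Ly) ∉ ({(x2 : Spor.Ly), (w : Spor.Ly)} : Finset Spor.Ly) := by
        rw [Finset.mem_insert, Finset.mem_singleton, not_or]
        exact ⟨ne12.symm, ne1w⟩
      rw [Finset.sum_insert a2, Finset.sum_insert a1, Finset.sum_singleton, if_neg ne1w, if_neg ne2w, if_pos rfl]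
      norm_num

/-- **The row `Ly`, `p = 3`.** -/
theorem row_ly {X : Type*} [Group X] (h : Spor.IsoLy X) : KRow.{u} 3 X := by
  obtain ⟨e⟩ := h
  exact KRow.congr e.symm krow

end Cfsg.Agent.H774.SP.Ly
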