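import Cfsg.Agent.H774.SP.Conway
import Cfsg.Agent.KFacts.Co3.Sheet
import Cfsg.Agent.KFacts.CoTwo.Main
import Cfsg.Agent.ConwayFacts.AutCo1
import Cfsg.Agent.H332.EB.McLAut

/-!
# S4876, `p = 3`: the rows `McL`, `Co3`, `Co2`, `Co1` (helper774)
-/

set_option autoImplicit false

namespace Cfsg.Agent.H774.SP.Rows

open Cfsg Cfsg.Agent.SporadicA Cfsg.Agent.H774.SP.Conway Cfsg.Agent.H61.K6
open Cfsg.Agent.Co2Type.Mono (tr8 tr8_conj)

universe u

instance finite_Co3 : Finite Spor.Co3 :=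
  Finite.of_injective (Subgroup.inclusion (inf_le_left : Spor.Co3 ≤ Co0)) (Subgroup.inclusion_injective _)

instance finite_Co2 : Finite Spor.Co2 :=
  Finite.of_injective (Subgroup.inclusion (inf_le_left : Spor.Co2 ≤ Co0)) (Subgroup.inclusion_injective _)

instance finite_McL : Finite Spor.McL := Finite.of_injective incM incM_injective

/-! ### McL -/

theorem krow_mcl : KRow.{u, 0} 3 Spor.McL := by
  refine row_of_hom (MonoidHom.id _) Function.injective_id (fun s => (tr8 (incM s)).natAbs) (fun σ s => ?_)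
    (fun s => rfl)
  obtain ⟨z, hz, -, -, h⟩ := Cfsg.Agent.H332.EB.McLAut.exists_conj σ
  have h1 : incM (σ s) = (⟨z, hz⟩ : Co0) * incM s * (⟨z, hz⟩ : Co0)⁻¹ := Subtype.ext (h s)
  show (tr8 (incM (σ s))).natAbs = (tr8 (incM s)).natAbs
  rw [h1, tr_conj]

/-- **The row `McL`, `p = 3`.** -/
theorem row_mcl {X : Type*} [Group X] (h : Spor.IsoMcL X) : KRow.{u} 3 X := by
  obtain ⟨e⟩ := h
  exact KRow.congr e.symm krow_mcl

/-! ### Co3 -/

theorem krow_co3 : KRow.{u, 0} 3 Spor.Co3 := by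
  refine row_of_hom (Subgroup.inclusion (inf_le_left : Spor.McL ≤ Spor.Co3)) (Subgroup.inclusion_injective _)
    (fun s => (tr8 (Subgroup.inclusion (inf_le_left : Spor.Co3 ≤ Co0) s)).natAbs) (fun σ s => ?_) (fun s => rfl)
  obtain ⟨k, hk⟩ := Cfsg.Agent.KFacts.Co3.Sheet.inner_of Cfsg.Agent.SporRec.Co3.Model.equivCo3 σ
  have h1 : σ s = k * s * k⁻¹ := by rw [hk]; rfl
  show (tr8 (Subgroup.inclusion _ (σ s))).natAbs = (tr8 (Subgroup.inclusion _ s)).natAbs
  rw [h1, map_mul, map_mul, map_inv, tr_conj]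

/-- **The row `Co3`, `p = 3`.** -/
theorem row_co3 {X : Type*} [Group X] (h : Spor.IsoCo3 X) : KRow.{u} 3 X := by
  obtain ⟨e⟩ := h
  exact KRow.congr e.symm krow_co3

/-! ### Co2 -/

theorem mcl_le_co2 : Spor.McL ≤ Spor.Co2 := fun _ h => ⟨h.1.1, h.2⟩

theorem krow_co2 : KRow.{u, 0} 3 Spor.Co2 := by
  refine row_of_hom (Subgroup.inclusion mcl_le_co2) (Subgroup.inclusion_injective _)
    (fun s => (tr8 (Subgroup.inclusion (inf_le_left : Spor.Co2 ≤ Co0) s)).natAbs) (fun σ s => ?_) (fun s => rfl)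
  have h0 : (σ : MulAut Spor.Co2) ∈ (MulAut.conj : Spor.Co2 →* MulAut Spor.Co2).range := by
    rw [Cfsg.Agent.KFacts.CoTwo.Main.range_conj]
    exact Subgroup.mem_top _
  obtain ⟨k, hk⟩ := h0
  have h1 : σ s = k * s * k⁻¹ := by rw [← hk]; rfl
  show (tr8 (Subgroup.inclusion _ (σ s))).natAbs = (tr8 (Subgroup.inclusion _ s)).natAbs
  rw [h1, map_mul, map_mul, map_inv, tr_conj]

/-- **The row `Co2`, `p = 3`.** -/
theorem row_co2 {X : Type*} [Group X] (h : Spor.IsoCo2 X) : KRow.{u} 3 X := by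
  obtain ⟨e⟩ := h
  exact KRow.congr e.symm krow_co2

/-! ### Co1 -/

theorem neg_smul (v : leechLattice) : (Co0Basic.negCo0 • v : leechLattice) = -v := Co0Basic.negCo0_apply v

theorem tr8_neg_mul (g : Co0) : tr8 (Co0Basic.negCo0 * g) = - tr8 g := by
  unfold tr8
  rw [← Finset.sum_neg_distrib]
  refine Finset.sum_congr rfl fun i _ => ?_
  rw [mul_smul, neg_smul]
  rfl

/-- the absolute value of the trace, on `Co1` -/
noncomputable def T1 (x : Spor.Co1) : ℕ := (tr8 (Quotient.out x)).natAbs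

theorem T1_mk (g : Co0) : T1 (g : Spor.Co1) = (tr8 g).natAbs := by
  unfold T1
  have h1 : ((Quotient.out (g : Spor.Co1) : Co0) : Spor.Co1) = (g : Spor.Co1) := QuotientGroup.out_eq' _
  have h2 : (Quotient.out (g : Spor.Co1) : Co0) * g⁻¹ ∈ Subgroup.center Co0 := by
    rw [← QuotientGroup.eq_one_iff, QuotientGroup.mk_mul, QuotientGroup.mk_inv, h1, mul_inv_cancel]
  rcases Co0Basic.eq_one_or_neg_of_mem_center h2 with h | h
  · rw [mul_inv_eq_one.1 h]
  · rw [mul_inv_eq_iff_eq_mul.1 h, tr8_neg_mul, Int.natAbs_neg]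

/-- the map from `McL` to `Co1` -/
noncomputable def incOne : Spor.McL →* Spor.Co1 := (QuotientGroup.mk' (Subgroup.center Co0)).comp incM

theorem incOne_injective : Function.Injective incOne := by
  rw [injective_iff_map_eq_one]
  intro s hs
  have h1 : incM s ∈ Subgroup.center Co0 := (QuotientGroup.eq_one_iff _).1 hs
  rcases Co0Basic.eq_one_or_neg_of_mem_center h1 with h | h
  · exact incM_injective (by rw [h, map_one])
  · exfalso
    have h2 : (incM s • Spor.leechV : leechLattice) = Spor.leechV := s.2.1.2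
    rw [h, neg_smul] at h2
    have h3 := congrArg (fun v : leechLattice => (v : GolayPt → ℤ) none) h2
    have h4 : -((Spor.leechV : leechLattice) : GolayPt → ℤ) none = ((Spor.leechV : leechLattice) : GolayPt → ℤ) none := h3
    have h5 : ((Spor.leechV : leechLattice) : GolayPt → ℤ) none = -5 := rfl
    rw [h5] at h4
    norm_num at h4

theorem krow_co1 : KRow.{u, 0} 3 Spor.Co1 := by
  refine row_of_hom incOne incOne_injective T1 (fun σ s => ?_) (fun s => T1_mk _)
  obtain ⟨k, hk⟩ := Cfsg.Agent.ConwayFacts.AutCo1.inner σ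
  obtain ⟨g, rfl⟩ := QuotientGroup.mk_surjective s
  obtain ⟨h, rfl⟩ := QuotientGroup.mk_surjective k
  rw [show σ (g : Spor.Co1) = _ from hk _, ← QuotientGroup.mk_inv, ← QuotientGroup.mk_mul, ← QuotientGroup.mk_mul,
    T1_mk, T1_mk, tr_conj]

/-- **The row `Co1`, `p = 3`.** -/
theorem row_co1 {X : Type*} [Group X] (h : Spor.IsoCo1 X) : KRow.{u} 3 X := by
  obtain ⟨e⟩ := h
  exact KRow.congr e.symm krow_co1

end Cfsg.Agent.H774.SP.Rows
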