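import Cfsg.Agent.H210.K6.Q8
import Cfsg.Agent.KFacts.Ru.ConjWord
import Cfsg.Agent.RuLat.Main

/-!
# S4876, `p = 3`: the row `Ru` (helper774)

`x`, `y` generate an extraspecial group of order 27 with centre `⟨z⟩`; `s`, `t` commute with `z` and generate modulo the
centralizer a quaternion group on it.  Criterion: helper210.
-/

set_option autoImplicit false
set_option maxRecDepth 100000
set_option exponentiation.threshold 5000

open Cfsg Subgroup

namespace Cfsg.Agent.H774.SP.Ru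

open Cfsg.Agent.SporadicB Cfsg.Agent.RuD.Letters Cfsg.Agent.SporRec.TCUpperCert
  Cfsg.Agent.SporRec.R3.Kernel Cfsg.Agent.KFacts.Ru.ConjWord Cfsg.Agent.H61.K6 Cfsg.Agent.H210.K6

universe u

/-- an element of order three of the Rudvalis group -/
def xw : List ℕ := [0, 4, 3]
/-- an element of order three of the Rudvalis group -/
def yw : List ℕ := [5, 3, 8, 5, 1, 7, 5, 7, 5]
/-- the commutator -/
def zw : List ℕ := xw ++ yw ++ iw xw ++ iw yw
/-- `x ↦ y`, `y ↦ x⁻¹` modulo the centre -/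
def sw : List ℕ := [6, 4, 2, 0, 3, 5, 7, 1, 8, 5, 2, 1, 3, 6, 5, 6]
/-- `x ↦ x y` modulo the centre -/
def tw : List ℕ := [3, 8, 2, 5, 1, 2, 8, 8, 2, 8, 7, 0, 6, 4, 7, 7, 5, 3, 3, 8, 6, 2, 0, 8, 7, 0, 7, 5, 8]

theorem chk : chkRel [xw ++ xw ++ xw, yw ++ yw ++ yw, eqr (zw ++ xw) (xw ++ zw), eqr (zw ++ yw) (yw ++ zw),
    eqr (zw ++ sw) (sw ++ zw), eqr (zw ++ tw) (tw ++ zw), eqr (sw ++ xw) (yw ++ zw ++ zw ++ sw),
    eqr (sw ++ yw) (xw ++ xw ++ zw ++ sw), eqr (tw ++ xw) (xw ++ yw ++ tw)] = true := by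
  decide +kernel

theorem chk_ne : neK zw [] 0 = true := by decide +kernel

theorem dat : ExtraDat (wprod ml xw : RuOrder.H) (wprod ml yw) (wprod ml zw) (wprod ml sw) (wprod ml tw) := by
  have h1 := rel_of_chk chk
  have hx := h1 (xw ++ xw ++ xw) (by simp)
  have hy := h1 (yw ++ yw ++ yw) (by simp)
  have hzx := eq_of (h1 (eqr (zw ++ xw) (xw ++ zw)) (by simp))
  have hzy := eq_of (h1 (eqr (zw ++ yw) (yw ++ zw)) (by simp))
  have hzs := eq_of (h1 (eqr (zw ++ sw) (sw ++ zw)) (by simp))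
  have hzt := eq_of (h1 (eqr (zw ++ tw) (tw ++ zw)) (by simp))
  have hsx := eq_of (h1 (eqr (sw ++ xw) (yw ++ zw ++ zw ++ sw)) (by simp))
  have hsy := eq_of (h1 (eqr (sw ++ yw) (xw ++ xw ++ zw ++ sw)) (by simp))
  have htx := eq_of (h1 (eqr (tw ++ xw) (xw ++ yw ++ tw)) (by simp))
  have hz := ne_of (p := zw) (q := []) (⟨0, by norm_num⟩ : Fin 4060) chk_ne
  simp only [wprod_append] at hx hy hzx hzy hzs hzt hsx hsy htx
  rw [wprod_nil] at hz
  have hzd : (wprod ml zw : RuOrder.H) = wprod ml xw * wprod ml yw * (wprod ml xw)⁻¹ * (wprod ml yw)⁻¹ := by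
    have e : zw = xw ++ yw ++ iw xw ++ iw yw := rfl
    rw [e, wprod_append, wprod_append, wprod_append, wprod_iw, wprod_iw]
  refine ⟨?_, ?_, hzx, hzy, ?_, hz, hzs, hzt, ⟨2, ?_⟩, ⟨1, ?_⟩, ⟨0, ?_⟩⟩
  · rw [pow_succ, pow_two]
    exact hx
  · rw [pow_succ, pow_two]
    exact hy
  · rw [hzd]
    group
  · rw [hsx, pow_two]
    group
  · rw [hsy, pow_one, pow_two]
  · rw [htx, pow_zero, mul_one]

/-- **The row `Ru`, `p = 3`.** -/
theorem krow : KRow.{u, 0} 3 RuOrder.H := by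
  have h3 : Fact (Nat.Prime 3) := ⟨Nat.prime_three⟩
  have hs : IsSimpleGroup RuOrder.H := by
    have := Cfsg.Agent.RuLat.Main.main.2.2
    exact Cfsg.Agent.RuLat.Main.equiv.symm.isSimpleGroup
  have hfin : Finite RuOrder.H := Nat.finite_of_card_ne_zero (by rw [RuOrder.card_H]; norm_num)
  have hc : ∃ a b : RuOrder.H, a * b ≠ b * a := by
    refine ⟨wprod ml xw, wprod ml yw, fun h => dat.z1 ?_⟩
    have h1 := dat.xy
    rw [h] at h1
    exact (mul_eq_right.1 h1.symm)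
  exact KRow.of_extra (not_compl_of_simple hc (by rw [RuOrder.card_H]; norm_num)) dat
    (by rw [RuOrder.card_H]; norm_num)

/-- **The row `Ru`, `p = 3`.** -/
theorem row_ru {X : Type*} [Group X] (h : Spor.IsoRu X) : KRow.{u} 3 X := by
  obtain ⟨e⟩ := h
  exact KRow.congr (e.trans Cfsg.Agent.RuLat.Main.equiv).symm krow

end Cfsg.Agent.H774.SP.Ru
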