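import Cfsg.Agent.H121.K6.Tools
import Cfsg.Agent.H800.Sp.Suz
import Cfsg.Agent.H997.OutSuz
import Cfsg.Agent.KFacts.SuzOut

/-!
# S4876, `p = 3`: the row `Suz` (helper774)

`x = de` (162 fixed points), `x = bc` (18 fixed points), an element of order 9.  The sum of the numbers of fixed points of
`s` and `ρ s` is invariant under `Aut Suz`.
-/

set_option autoImplicit false
set_option maxRecDepth 100000

namespace Cfsg.Agent.H774.SP.Suz

open Cfsg.Spor Cfsg.Agent.SporadicRecognition.SuzPhi Cfsg.Agent.SporadicRecognition.SuzOrder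
open Cfsg.Agent.SporRec.SuzCl hiding el_append
open Cfsg.Agent.H800.Sp.Suz Cfsg.Agent.KFacts.SuzRho
open Cfsg.Agent.H61.K6 Cfsg.Agent.H121.K6

universe u

/-! ### words -/

theorem neq {u v : List Suz.Gen} (p : ℕ) (hp : p < 1782)
    (h : Nat.beq (wk u.reverse p) (wk v.reverse p) = false) : el u ≠ el v := by
  intro e
  have h1 := (wtr_spec u p hp).1
  rw [e, (wtr_spec v p hp).1, ← wk_reverse, ← wk_reverse] at h1
  rw [h1] at h
  simp at h

theorem el_reverse (w : List Suz.Gen) : el w.reverse = (el w)⁻¹ := by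
  induction w with
  | nil => exact inv_one.symm
  | cons x w ih =>
    rw [List.reverse_cons, Cfsg.Agent.H800.Sp.Suz.el_append, ih, show x :: w = [x] ++ w from rfl,
      Cfsg.Agent.H800.Sp.Suz.el_append, mul_inv_rev]
    congr 1
    exact eq_inv_of_mul_eq_one_left (Cfsg.Agent.SuzThree.Basic.gen_sq x)

theorem el_surj (s : Suz) : ∃ w, el w = s := by
  have hs : s ∈ Subgroup.closure (Set.range (PresentedGroup.of : Suz.Gen → Suz)) := by
    have h := PresentedGroup.closure_range_of (coxRelators Suz.edges ∪ {r | r ∈ Suz.extra})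
    exact h ▸ Subgroup.mem_top s
  induction hs using Subgroup.closure_induction with
  | mem x hx =>
    obtain ⟨g, rfl⟩ := hx
    exact ⟨[g], el_one g⟩
  | one => exact ⟨[], rfl⟩
  | mul x y _ _ hx hy =>
    obtain ⟨v, rfl⟩ := hx
    obtain ⟨w, rfl⟩ := hy
    exact ⟨v ++ w, Cfsg.Agent.H800.Sp.Suz.el_append v w⟩
  | inv x _ hx =>
    obtain ⟨v, rfl⟩ := hx
    exact ⟨v.reverse, el_reverse v⟩

theorem phi_lt (s : Suz) {p : ℕ} (hp : p < 1782) : φ s p < 1782 := by
  obtain ⟨w, rfl⟩ := el_surj s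
  rw [(wtr_spec w p hp).1]
  exact (wtr_spec w p hp).2

/-! ### fixed points -/

/-- the number of fixed points -/
noncomputable def fp (s : Suz) : ℕ := ((Finset.range 1782).filter fun p => φ s p = p).card

theorem fp_conj (g s : Suz) : fp (g * s * g⁻¹) = fp s := by
  unfold fp
  symm
  apply Finset.card_bij (fun p _ => φ g p)
  · intro p hp
    rw [Finset.mem_filter, Finset.mem_range] at hp ⊢
    refine ⟨phi_lt g hp.1, ?_⟩
    rw [map_mul, map_mul, map_inv, Equiv.Perm.mul_apply, Equiv.Perm.mul_apply,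
      show (φ g)⁻¹ (φ g p) = p from (φ g).symm_apply_apply p, hp.2]
  · intro p _ q _ h
    exact (φ g).injective h
  · intro q hq
    rw [Finset.mem_filter, Finset.mem_range] at hq
    refine ⟨φ g⁻¹ q, ?_, ?_⟩
    · rw [Finset.mem_filter, Finset.mem_range]
      refine ⟨phi_lt g⁻¹ hq.1, ?_⟩
      have h1 := hq.2
      rw [map_mul, map_mul, Equiv.Perm.mul_apply, Equiv.Perm.mul_apply] at h1
      apply (φ g).injective
      rw [h1, map_inv]
      exact ((φ g).apply_symm_apply q).symm
    · rw [map_inv]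
      exact (φ g).apply_symm_apply q

/-- number of `i` in `[s, s + 2^d)` with `f i` -/
noncomputable def cnt (f : ℕ → Bool) (d : ℕ) : ℕ → ℕ :=
  Nat.rec (motive := fun _ => ℕ → ℕ) (fun s => Bool.rec (motive := fun _ => ℕ) 0 1 (f s))
    (fun k ih s => Nat.add (ih s) (ih (Nat.add s (Nat.pow 2 k)))) d

theorem cnt_spec (f : ℕ → Bool) (d : ℕ) : ∀ s, cnt f d s = ((Finset.Ico s (s + 2 ^ d)).filter fun i => f i = true).card := by
  induction d with
  | zero =>
    intro s
    have h1 : Finset.Ico s (s + 2 ^ 0) = {s} := by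
      ext i
      simp only [Finset.mem_Ico, Finset.mem_singleton, pow_zero]
      omega
    rw [h1, Finset.filter_singleton]
    show (Bool.rec (motive := fun _ => ℕ) 0 1 (f s) : ℕ) = _
    cases f s <;> simp
  | succ d ih =>
    intro s
    show cnt f d s + cnt f d (s + 2 ^ d) = _
    rw [ih, ih, ← Finset.card_union_of_disjoint]
    · congr 1
      rw [← Finset.filter_union]
      congr 1
      rw [pow_succ]
      rw [show s + 2 ^ d * 2 = s + 2 ^ d + 2 ^ d by ring]
      exact Finset.Ico_union_Ico_eq_Ico (Nat.le_add_right _ _) (Nat.le_add_right _ _)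
    · apply Finset.disjoint_filter_filter
      exact Finset.Ico_disjoint_Ico_consecutive _ _ _

theorem fp_el (w : List Suz.Gen) : fp (el w) =
    cnt (fun i => and (Nat.ble (Nat.succ i) 1782) (Nat.beq (wk w.reverse i) i)) 11 0 := by
  rw [cnt_spec, fp]
  congr 1
  ext i
  simp only [Finset.mem_filter, Finset.mem_range, Finset.mem_Ico, Bool.and_eq_true, Nat.beq_eq, wk_reverse]
  constructor
  · rintro ⟨h1, h2⟩
    refine ⟨by omega, Nat.ble_eq_true_of_le h1, ?_⟩
    rw [← (wtr_spec w i h1).1, h2]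
  · rintro ⟨-, h1, h2⟩
    have h1 : i < 1782 := Nat.le_of_ble_eq_true h1
    exact ⟨h1, by rw [(wtr_spec w i h1).1, h2]⟩

theorem f1 : cnt (fun i => and (Nat.ble (Nat.succ i) 1782) (Nat.beq (wk [.e, .d] i) i)) 11 0 = 162 := by
  decide +kernel

theorem f2 : cnt (fun i => and (Nat.ble (Nat.succ i) 1782) (Nat.beq (wk [.c, .b] i) i)) 11 0 = 18 := by
  decide +kernel

/-- an `Aut`-invariant -/
noncomputable def T (s : Suz) : ℕ := fp s + fp (rho s)

theorem T_conj (g s : Suz) : T (g * s * g⁻¹) = T s := by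
  unfold T
  rw [fp_conj, map_mul, map_mul, map_inv, fp_conj]

theorem T_rho (s : Suz) : T (rho s) = T s := by
  unfold T
  have h : rho (rho s) = s := DFunLike.congr_fun rho_sq s
  rw [h, add_comm]

theorem T_aut (σ : Suz ≃* Suz) (s : Suz) : T (σ s) = T s := by
  rcases Cfsg.Agent.KFacts.SuzOut.out_two (σ : MulAut Suz) rho with h | h | h
  · obtain ⟨g, hg⟩ := h
    have h1 : σ s = g * s * g⁻¹ := by rw [← hg]; rfl
    rw [h1, T_conj]
  · obtain ⟨g, hg⟩ := h
    exact absurd hg.symm (Cfsg.Agent.H997.OutSuz.rho_outer g)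
  · obtain ⟨g, hg⟩ := h
    have h1 : rho = (σ : MulAut Suz) * MulAut.conj g := by rw [hg, mul_inv_cancel_left]
    have h2 : rho (g⁻¹ * s * g) = σ s := by
      rw [h1]
      show σ (g * (g⁻¹ * s * g) * g⁻¹) = σ s
      congr 1
      group
    rw [← h2, T_rho]
    have h3 := T_conj g⁻¹ s
    rwa [inv_inv] at h3

/-! ### weights -/

theorem wt2 {x y n : List Suz.Gen} (c1 : eqG (y ++ x) (x ++ y) = true) (c2 : eqG (n ++ x) (x ++ n) = true)
    (c3 : eqG (y ++ (y ++ y)) [] = true) (c4 : el y ≠ 1) (c5 : eqG (y ++ (n ++ y)) n = true) : wt 3 (el x) = 2 := by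
  have e1 := geq c1
  have e2 := geq c2
  have e3 := geq c3
  have e5 := geq c5
  simp only [Cfsg.Agent.H800.Sp.Suz.el_append, Cfsg.Agent.H800.Sp.Suz.el_nil] at e1 e2 e3 e5
  refine wt_eq_two_of_inv (by norm_num) (by norm_num) (k := 1) (y := el y) (n := el n) e1 e2 ?_ c4 ?_
  · rw [pow_one, pow_succ, pow_two, mul_assoc]
    exact e3
  · rw [mul_inv_eq_iff_eq_mul]
    exact eq_inv_mul_of_mul_eq e5

/-- the words -/
def X1 : List Suz.Gen := [.d, .e]
def Y1 : List Suz.Gen := [.b, .f]
def N1 : List Suz.Gen := [.b]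
def X2 : List Suz.Gen := [.b, .c]
def Y2 : List Suz.Gen := [.e, .f, .b, .c, .d, .c, .b, .f, .e, .f, .b, .c, .d, .c, .b, .f]
def N2 : List Suz.Gen := [.e]
def X3 : List Suz.Gen := [.d, .g, .f, .a, .b, .c, .f, .d, .c, .b]

theorem fp_eq {w v : List Suz.Gen} (h : w.reverse = v) {n : ℕ}
    (hn : cnt (fun i => and (Nat.ble (Nat.succ i) 1782) (Nat.beq (wk v i) i)) 11 0 = n) : fp (el w) = n := by
  subst h
  rw [fp_el]
  exact hn

theorem r1 : X1.reverse = [.e, .d] := rfl

theorem r1' : (List.map sw X1).reverse = [.e, .d] := rfl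

theorem r2 : X2.reverse = [.c, .b] := rfl

theorem r2' : (List.map sw X2).reverse = [.c, .b] := rfl

theorem T_of {s : Suz} {a b c : ℕ} (h1 : fp s = a) (h2 : fp (rho s) = b) (h3 : a + b = c) : T s = c := by
  unfold T
  rw [h1, h2, h3]

theorem t1 : fp (el X1) = 162 := fp_eq r1 f1

theorem t1' : fp (rho (el X1)) = 162 := by
  rw [rho_el]
  exact fp_eq r1' f1

theorem t2 : fp (el X2) = 18 := fp_eq r2 f2

theorem t2' : fp (rho (el X2)) = 18 := by
  rw [rho_el]
  exact fp_eq r2' f2

theorem T1 : T (el X1) = 324 := T_of t1 t1' rfl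

theorem T2 : T (el X2) = 36 := T_of t2 t2' rfl

theorem g1 : eqG (X1 ++ (X1 ++ X1)) [] = true := by decide +kernel
theorem g2 : eqG (X2 ++ (X2 ++ X2)) [] = true := by decide +kernel
theorem g3 : eqG (X3 ++ (X3 ++ (X3 ++ (X3 ++ (X3 ++ (X3 ++ (X3 ++ (X3 ++ X3)))))))) [] = true := by decide +kernel

theorem w1 : wt 3 (el X1) = 2 :=
  wt2 (y := Y1) (n := N1) (by decide +kernel) (by decide +kernel) (by decide +kernel)
    (neq (v := []) 1 (by norm_num) (by decide +kernel)) (by decide +kernel)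

theorem w2 : wt 3 (el X2) = 2 :=
  wt2 (y := Y2) (n := N2) (by decide +kernel) (by decide +kernel) (by decide +kernel)
    (neq (v := []) 1 (by norm_num) (by decide +kernel)) (by decide +kernel)

theorem one_ne : el X1 ≠ 1 := neq (v := []) 4 (by norm_num) (by decide +kernel)
theorem two_ne : el X2 ≠ 1 := neq (v := []) 1 (by norm_num) (by decide +kernel)
theorem three_ne : el (X3 ++ (X3 ++ X3)) ≠ 1 := neq (v := []) 1 (by norm_num) (by decide +kernel)

/-- **The row `Suz`, `p = 3`.** -/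
theorem krow : KRow.{u, 0} 3 Suz := by
  classical
  have h3 : Fact (Nat.Prime 3) := ⟨Nat.prime_three⟩
  have e1 := geq g1
  have e2 := geq g2
  have e3 := geq g3
  simp only [Cfsg.Agent.H800.Sp.Suz.el_append, Cfsg.Agent.H800.Sp.Suz.el_nil] at e1 e2 e3
  have e4 := three_ne
  simp only [Cfsg.Agent.H800.Sp.Suz.el_append] at e4
  have o1 : orderOf (el X1) = 3 := orderOf_eq_prime (by rw [pow_succ, pow_two, mul_assoc]; exact e1) one_ne
  have o2 : orderOf (el X2) = 3 := orderOf_eq_prime (by rw [pow_succ, pow_two, mul_assoc]; exact e2) two_ne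
  have o3 : orderOf (el X3) = 9 := by
    have h1 : ¬ el X3 ^ 3 ^ 1 = 1 := by
      rw [pow_one, pow_succ, pow_two, mul_assoc]
      exact e4
    have h2 : el X3 ^ 3 ^ (1 + 1) = 1 := by
      rw [← e3]
      simp only [pow_succ, pow_zero, one_mul, mul_assoc, show 3 ^ (1 + 1) = 9 by norm_num]
    rw [orderOf_eq_prime_pow h1 h2]
    norm_num
  have t1 := T1
  have t2 := T2
  have hX : ¬ Cfsg.HasNormalPComplement 3 Suz := by
    have h5 := geq (u := Y1 ++ (N1 ++ Y1)) (v := N1) (by decide +kernel)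
    have h6 := geq (u := Y1 ++ (Y1 ++ Y1)) (v := []) (by decide +kernel)
    simp only [Cfsg.Agent.H800.Sp.Suz.el_append, Cfsg.Agent.H800.Sp.Suz.el_nil] at h5 h6
    refine not_compl_of_inv (by norm_num) (by norm_num) (k := 1) (y := el Y1) (n := el N1) ?_
      (neq (v := []) 1 (by norm_num) (by decide +kernel)) ?_
    · rw [pow_one, pow_succ, pow_two, mul_assoc]
      exact h6
    · rw [mul_inv_eq_iff_eq_mul]
      exact eq_inv_mul_of_mul_eq h5
  have e12 : el X1 ≠ el X2 := fun h => by rw [h, t2] at t1; norm_num at t1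
  have e13 : el X1 ≠ el X3 := fun h => by rw [h, o3] at o1; norm_num at o1
  have e23 : el X2 ≠ el X3 := fun h => by rw [h, o3] at o2; norm_num at o2
  refine KRow.of_wt hX {el X1, el X2, el X3} ?_ ?_ ?_
  · intro x hx
    simp only [Finset.mem_insert, Finset.mem_singleton] at hx
    rcases hx with rfl | rfl | rfl
    · exact ⟨⟨1, by rw [o1]; norm_num⟩, one_ne⟩
    · exact ⟨⟨1, by rw [o2]; norm_num⟩, two_ne⟩
    · refine ⟨⟨2, by rw [o3]; norm_num⟩, fun h => ?_⟩
      rw [h, orderOf_one] at o3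
      norm_num at o3
  · intro x hx y hy σ h
    have h1 : T x = T y := by rw [← h, T_aut]
    have h2 : orderOf x = orderOf y := by rw [← h, MulEquiv.orderOf_eq]
    simp only [Finset.mem_insert, Finset.mem_singleton] at hx hy
    rcases hx with rfl | rfl | rfl <;> rcases hy with rfl | rfl | rfl
    · rfl
    · rw [t1, t2] at h1; norm_num at h1
    · rw [o1, o3] at h2; norm_num at h2
    · rw [t1, t2] at h1; norm_num at h1
    · rfl
    · rw [o2, o3] at h2; norm_num at h2
    · rw [o1, o3] at h2; norm_num at h2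
    · rw [o2, o3] at h2; norm_num at h2
    · rfl
  · rw [Finset.sum_insert (by simp [e12, e13]), Finset.sum_insert (by simp [e23]), Finset.sum_singleton, w1, w2]
    have := one_le_wt (p := 3) (el X3)
    omega

/-- **The row `Suz`, `p = 3`.** -/
theorem row_suz {X : Type*} [Group X] (h : IsoSuz X) : KRow.{u} 3 X := by
  obtain ⟨e⟩ := h
  exact KRow.congr e.symm krow

end Cfsg.Agent.H774.SP.Suz
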