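import Cfsg.Agent.H774.SP.Mat
import Cfsg.Agent.H121.K6.Tools
import Cfsg.Agent.H49.CoThreeThree
import Cfsg.Agent.PreUniqCo.TrWord

/-!
# S4876, `p = 3`: the rows of the Conway groups and of `McL`, common part (helper774)

One computation in `McL`: elements of order 3 and of traces `-3` and `6` on the lattice, each commuting with an element of
order 3 and an element inverting it, and an element of order 9.  `row_of_hom` : a finite group `X` containing `McL`, with
a function invariant under `Aut X` that extends the absolute value of the trace.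
-/

set_option autoImplicit false
set_option maxRecDepth 20000

namespace Cfsg.Agent.H774.SP.Conway

open Cfsg Cfsg.Agent.SporadicA Cfsg.Agent.SporadicStructure.Co0Matrix Cfsg.Agent.CoOneType.CoEval
open Cfsg.Agent.CoOneType.CoFast Cfsg.Agent.LThreeCo1.Ev
open Cfsg.Agent.H49.Stab Cfsg.Agent.H774.SP.Mat
open Cfsg.Agent.H61.K6 Cfsg.Agent.H121.K6
open Cfsg.Agent.Co2Type.Mono (tr8 tr8_conj)
open Cfsg.Agent.PreUniqCo.TrWord (trW tr8_word)

universe u

/-- the coordinates of `leechV` -/
def vL : List ℤ := [-1, -1, -1, -1, -1, -1, -1, -1, -1, -1, -1, -1, -1, -1, -1, -1, -1, -1, -1, -1, -1, -1, -1, -5]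

theorem vecV_eq : ((Spor.leechV : leechLattice) : GolayPt → ℤ) = vec vL := by
  show Spor.vecV = vec vL
  funext p
  revert p
  decide +kernel

/-- the coordinates of `leechU` -/
def uL : List ℤ := [4, 0, 0, 0, 0, 0, 0, 0, 0, 0, 0, 0, 0, 0, 0, 0, 0, 0, 0, 0, 0, 0, 0, 4]

theorem vecU_eq : ((Spor.leechU : leechLattice) : GolayPt → ℤ) = vec uL := by
  show Spor.vecU = vec uL
  funext p
  revert p
  decide +kernel

theorem k_fixV : (apZ R1 vL = vL ∧ apZ R2 vL = vL ∧ apZ R3 vL = vL) ∧ (apZ R4 vL = vL ∧ apZ R5 vL = vL ∧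
    apZ R6 vL = vL) ∧ apZ R7 vL = vL := by
  decide +kernel

theorem k_fixU : (apZ R1 uL = uL ∧ apZ R2 uL = uL ∧ apZ R3 uL = uL) ∧ (apZ R4 uL = uL ∧ apZ R5 uL = uL ∧
    apZ R6 uL = uL) ∧ apZ R7 uL = uL := by
  decide +kernel

theorem fixV (i : ℕ) : (el okM i).1 Spor.leechV = Spor.leechV := by
  apply Subtype.ext
  refine (Rep.apply (rep_mk (okM i)) (l := vL) (by decide) vecV_eq).trans ?_
  rw [← apZ_eq, vecV_eq]
  congr 1
  obtain ⟨⟨h1, h2, h3⟩, ⟨h4, h5, h6⟩, h7⟩ := k_fixV
  unfold M
  split <;> assumption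

theorem fixU (i : ℕ) : (el okM i).1 Spor.leechU = Spor.leechU := by
  apply Subtype.ext
  refine (Rep.apply (rep_mk (okM i)) (l := uL) (by decide) vecU_eq).trans ?_
  rw [← apZ_eq, vecU_eq]
  congr 1
  obtain ⟨⟨h1, h2, h3⟩, ⟨h4, h5, h6⟩, h7⟩ := k_fixU
  unfold M
  split <;> assumption

/-- the elements of `McL` -/
noncomputable def me (i : ℕ) : Spor.McL :=
  ⟨(el okM i).1, ⟨(el okM i).2, fixV i⟩, fixU i⟩

/-- the elements of `McL` and their inverses -/
noncomputable def mx (i : ℕ) : Spor.McL := if i < 32 then me i else (me (i - 32))⁻¹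

/-- the inclusion -/
noncomputable def incM : Spor.McL →* Co0 := Subgroup.inclusion (inf_le_left.trans inf_le_left)

theorem incM_injective : Function.Injective incM := Subgroup.inclusion_injective _

theorem incM_me (i : ℕ) : incM (me i) = el okM i := rfl

theorem incM_mx (i : ℕ) : incM (mx i) = xe okM i := by
  unfold mx xe
  split_ifs
  · rfl
  · rw [map_inv]; rfl

theorem incM_word (w : List ℕ) : incM (w.map mx).prod = (w.map (xe okM)).prod := by
  rw [map_list_prod, List.map_map]
  congr 1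
  exact List.map_congr_left fun i _ => incM_mx i

theorem word_eq {w w' : List ℕ} (h : eqB (xM M) w w' = true) : (w.map mx).prod = (w'.map mx).prod := by
  apply incM_injective
  rw [incM_word, incM_word]
  exact eq_of_eqB (xrep okM) h

theorem word_tr (w : List ℕ) : tr8 (incM (w.map mx).prod) = trW (xM M) w := by
  rw [incM_word]
  exact tr8_word (xrep okM) w

theorem mx1 : mx 1 = me 1 := rfl
theorem mx_lt {i : ℕ} (h : i < 32) : mx i = me i := if_pos h
theorem mx_inv {i : ℕ} (h : i < 32) : mx (i + 32) = (me i)⁻¹ := by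
  unfold mx
  rw [if_neg (by omega), Nat.add_sub_cancel]

/-! ### the relations -/

theorem k1 : eqB (xM M) [1, 1, 1] [] = true := by decide +kernel
theorem k2 : eqB (xM M) [3, 1] [1, 3] = true := by decide +kernel
theorem k3 : eqB (xM M) [2, 1] [1, 2] = true := by decide +kernel
theorem k4 : eqB (xM M) [3, 3, 3] [] = true := by decide +kernel
theorem k5 : eqB (xM M) [2, 3] [35, 2] = true := by decide +kernel
theorem k6 : eqB (xM M) [4, 4, 4] [] = true := by decide +kernel
theorem k7 : eqB (xM M) [6, 4] [4, 6] = true := by decide +kernel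
theorem k8 : eqB (xM M) [5, 4] [4, 5] = true := by decide +kernel
theorem k9 : eqB (xM M) [6, 6, 6] [] = true := by decide +kernel
theorem k10 : eqB (xM M) [5, 6] [38, 5] = true := by decide +kernel
theorem k11 : eqB (xM M) [7, 7, 7, 7, 7, 7, 7, 7, 7] [] = true := by decide +kernel

theorem k_tr : (trW (xM M) [1] = -24 ∧ trW (xM M) [3] = 48 ∧ trW (xM M) [4] = 48) ∧ trW (xM M) [6] = 48 ∧
    trW (xM M) [7, 7, 7] ≠ 192 := by decide +kernel

theorem cube {i : ℕ} (hi : i < 32) (h : eqB (xM M) [i, i, i] [] = true) : me i ^ 3 = 1 := by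
  have h1 := word_eq h
  simp only [List.map_cons, List.map_nil, List.prod_cons, List.prod_nil, mul_one, mx_lt hi] at h1
  rw [pow_succ, pow_two, mul_assoc]
  exact h1

theorem comm {i j : ℕ} (hi : i < 32) (hj : j < 32) (h : eqB (xM M) [i, j] [j, i] = true) :
    me i * me j = me j * me i := by
  have h1 := word_eq h
  simp only [List.map_cons, List.map_nil, List.prod_cons, List.prod_nil, mul_one, mx_lt hi, mx_lt hj] at h1
  exact h1

theorem inv_of {i j : ℕ} (hi : i < 32) (hj : j < 32) (h : eqB (xM M) [i, j] [j + 32, i] = true) :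
    me i * me j * (me i)⁻¹ = (me j)⁻¹ := by
  have h1 := word_eq h
  simp only [List.map_cons, List.map_nil, List.prod_cons, List.prod_nil, mul_one, mx_lt hi, mx_lt hj, mx_inv hj] at h1
  rw [h1, mul_inv_cancel_right]

theorem tr_me {i : ℕ} (hi : i < 32) : tr8 (incM (me i)) = trW (xM M) [i] := by
  have h1 := word_tr [i]
  simp only [List.map_cons, List.map_nil, List.prod_cons, List.prod_nil, mul_one, mx_lt hi] at h1
  exact h1

theorem tr_one : tr8 (incM (1 : Spor.McL)) = 192 := by
  rw [map_one, Cfsg.Agent.SigZeroCo2.Lin.tr8_one]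

theorem ne_one {s : Spor.McL} (h : tr8 (incM s) ≠ 192) : s ≠ 1 := by
  rintro rfl
  exact h tr_one

theorem nine : me 7 ^ 9 = 1 := by
  have h1 := word_eq k11
  simp only [List.map_cons, List.map_nil, List.prod_cons, List.prod_nil, mul_one, mx_lt (i := 7) (by norm_num)] at h1
  rw [← h1]
  simp only [pow_succ, pow_zero, one_mul, mul_assoc]

theorem three_ne : me 7 ^ 3 ≠ 1 := by
  apply ne_one
  have h1 := word_tr [7, 7, 7]
  simp only [List.map_cons, List.map_nil, List.prod_cons, List.prod_nil, mul_one, mx_lt (i := 7) (by norm_num)] at h1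
  rw [pow_succ, pow_two, mul_assoc, h1]
  exact k_tr.2.2

/-! ### the criterion -/

/-- **The common row.** -/
theorem row_of_hom {X : Type} [Group X] [Finite X] (φ : Spor.McL →* X) (hφ : Function.Injective φ) (T : X → ℕ)
    (haut : ∀ (σ : X ≃* X) (x : X), T (σ x) = T x) (hT : ∀ s, T (φ s) = (tr8 (incM s)).natAbs) : KRow.{u, 0} 3 X := by
  classical
  have h3 : Fact (Nat.Prime 3) := ⟨Nat.prime_three⟩
  have hne : ∀ {s : Spor.McL}, s ≠ 1 → φ s ≠ 1 := fun {s} h h1 => h (hφ (by rw [h1, map_one]))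
  have t1 : T (φ (me 1)) = 24 := by rw [hT, tr_me (by norm_num), k_tr.1.1]; rfl
  have t4 : T (φ (me 4)) = 48 := by rw [hT, tr_me (by norm_num), k_tr.1.2.2]; rfl
  have n1 : me 1 ≠ 1 := ne_one (by rw [tr_me (by norm_num), k_tr.1.1]; norm_num)
  have n3 : me 3 ≠ 1 := ne_one (by rw [tr_me (by norm_num), k_tr.1.2.1]; norm_num)
  have n4 : me 4 ≠ 1 := ne_one (by rw [tr_me (by norm_num), k_tr.1.2.2]; norm_num)
  have n6 : me 6 ≠ 1 := ne_one (by rw [tr_me (by norm_num), k_tr.2.1]; norm_num)
  have c1 : me 1 ^ 3 = 1 := cube (by norm_num) k1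
  have c3 : me 3 ^ 3 = 1 := cube (by norm_num) k4
  have c4 : me 4 ^ 3 = 1 := cube (by norm_num) k6
  have c6 : me 6 ^ 3 = 1 := cube (by norm_num) k9
  have i3 := inv_of (i := 2) (j := 3) (by norm_num) (by norm_num) k5
  have i6 := inv_of (i := 5) (j := 6) (by norm_num) (by norm_num) k10
  have o1 : orderOf (φ (me 1)) = 3 := orderOf_eq_prime (by rw [← map_pow, c1, map_one]) (hne n1)
  have o4 : orderOf (φ (me 4)) = 3 := orderOf_eq_prime (by rw [← map_pow, c4, map_one]) (hne n4)
  have o7 : orderOf (φ (me 7)) = 9 := by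
    have h1 : ¬ φ (me 7) ^ 3 ^ 1 = 1 := by
      rw [pow_one, ← map_pow]
      exact hne three_ne
    have h2 : φ (me 7) ^ 3 ^ (1 + 1) = 1 := by
      rw [← map_pow, show 3 ^ (1 + 1) = 9 by norm_num, nine, map_one]
    have h4 := orderOf_eq_prime_pow h1 h2
    rw [h4]
    norm_num
  have w1 : wt 3 (φ (me 1)) = 2 := by
    refine wt_eq_two_of_inv (by norm_num) (by norm_num) (k := 1) (y := φ (me 3)) (n := φ (me 2)) ?_ ?_ ?_ (hne n3) ?_
    · rw [← map_mul, comm (by norm_num) (by norm_num) k2, map_mul]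
    · rw [← map_mul, comm (by norm_num) (by norm_num) k3, map_mul]
    · rw [pow_one, ← map_pow, c3, map_one]
    · rw [← map_mul, ← map_inv, ← map_mul, i3, map_inv]
  have w4 : wt 3 (φ (me 4)) = 2 := by
    refine wt_eq_two_of_inv (by norm_num) (by norm_num) (k := 1) (y := φ (me 6)) (n := φ (me 5)) ?_ ?_ ?_ (hne n6) ?_
    · rw [← map_mul, comm (by norm_num) (by norm_num) k7, map_mul]
    · rw [← map_mul, comm (by norm_num) (by norm_num) k8, map_mul]
    · rw [pow_one, ← map_pow, c6, map_one]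
    · rw [← map_mul, ← map_inv, ← map_mul, i6, map_inv]
  have hX : ¬ HasNormalPComplement 3 X := by
    refine not_compl_of_inv (by norm_num) (by norm_num) (k := 1) (y := φ (me 3)) (n := φ (me 2)) ?_ (hne n3) ?_
    · rw [pow_one, ← map_pow, c3, map_one]
    · rw [← map_mul, ← map_inv, ← map_mul, i3, map_inv]
  have e14 : φ (me 1) ≠ φ (me 4) := fun h => by rw [h, t4] at t1; norm_num at t1
  have e17 : φ (me 1) ≠ φ (me 7) := fun h => by rw [h, o7] at o1; norm_num at o1
  have e47 : φ (me 4) ≠ φ (me 7) := fun h => by rw [h, o7] at o4; norm_num at o4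
  refine KRow.of_wt hX {φ (me 1), φ (me 4), φ (me 7)} ?_ ?_ ?_
  · intro x hx
    simp only [Finset.mem_insert, Finset.mem_singleton] at hx
    rcases hx with rfl | rfl | rfl
    · exact ⟨⟨1, by rw [o1]; norm_num⟩, hne n1⟩
    · exact ⟨⟨1, by rw [o4]; norm_num⟩, hne n4⟩
    · refine ⟨⟨2, by rw [o7]; norm_num⟩, fun h => ?_⟩
      rw [h, orderOf_one] at o7
      norm_num at o7
  · intro x hx y hy σ h
    have h1 : T x = T y := by rw [← h, haut]
    have h2 : orderOf x = orderOf y := by rw [← h, MulEquiv.orderOf_eq]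
    simp only [Finset.mem_insert, Finset.mem_singleton] at hx hy
    rcases hx with rfl | rfl | rfl <;> rcases hy with rfl | rfl | rfl
    · rfl
    · rw [t1, t4] at h1; norm_num at h1
    · rw [o1, o7] at h2; norm_num at h2
    · rw [t1, t4] at h1; norm_num at h1
    · rfl
    · rw [o4, o7] at h2; norm_num at h2
    · rw [o1, o7] at h2; norm_num at h2
    · rw [o4, o7] at h2; norm_num at h2
    · rfl
  · rw [Finset.sum_insert (by simp [e14, e17]), Finset.sum_insert (by simp [e47]), Finset.sum_singleton, w1, w4]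
    have := one_le_wt (p := 3) (φ (me 7))
    omega

/-- invariance from conjugation in `Co0` -/
theorem tr_conj (g h : Co0) : (tr8 (g * h * g⁻¹)).natAbs = (tr8 h).natAbs := by rw [tr8_conj]

end Cfsg.Agent.H774.SP.Conway
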