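import Cfsg.Agent.H820.K6.ASix
import Cfsg.Agent.H968.TwoM22Fact

/-!
# `l(B₀(M22)) ≥ 5` for the prime 3 (helper774)

* `compl_36` : a group of order 36 whose Sylow 3-subgroups are abelian and not normal is 3-nilpotent;
* `rank_M22` : `5 ≤ l(B₀(M22))`, `p = 3`.
-/

set_option autoImplicit false

open Cfsg Subgroup

namespace Cfsg.Agent.H774.SP.M22

open Cfsg.Agent.H61.K6 Cfsg.Agent.H820.K6

universe u v

/-- A group of order 36 with an abelian Sylow 3-subgroup which is not normal is 3-nilpotent. -/
theorem compl_36 {C : Type*} [Group C] [Finite C] (hC : Nat.card C = 36) (P : Sylow 3 C)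
    (hab : ∀ x ∈ P, ∀ y ∈ P, x * y = y * x) (hn : ¬ (P : Subgroup C).Normal) : HasNormalPComplement 3 C := by
  have h3 : Fact (Nat.Prime 3) := ⟨Nat.prime_three⟩
  have hP : Nat.card P = 9 := by
    rw [P.card_eq_multiplicity, hC]
    have : Nat.factorization 36 3 = 2 := by
      rw [show 36 = 3 ^ 2 * 4 by norm_num, Nat.factorization_mul (by norm_num) (by norm_num)]
      simp only [Finsupp.coe_add, Pi.add_apply, Nat.Prime.factorization_pow Nat.prime_three, Finsupp.single_eq_same]
      rw [Nat.factorization_eq_zero_of_not_dvd (by norm_num)]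
    rw [this]
    norm_num
  have hidx : (P : Subgroup C).index = 4 := by
    have := (P : Subgroup C).card_mul_index
    rw [hC] at this
    have h2 : Nat.card (P : Subgroup C) = 9 := hP
    rw [h2] at this
    omega
  have hle : (P : Subgroup C) ≤ normalizer ((P : Subgroup C) : Set C) := le_normalizer
  -- the number of Sylow subgroups
  have hcong := card_sylow_modEq_one 3 C
  have hnum : Nat.card (Sylow 3 C) = (normalizer ((P : Subgroup C) : Set C)).index :=
    P.card_eq_index_normalizer
  have hdvd : (normalizer ((P : Subgroup C) : Set C)).index ∣ 4 := by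
    rw [← hidx]
    exact index_dvd_of_le hle
  have hne1 : (normalizer ((P : Subgroup C) : Set C)).index ≠ 1 := by
    intro h
    rw [index_eq_one] at h
    exact hn (normalizer_eq_top_iff.1 h)
  have h4 : (normalizer ((P : Subgroup C) : Set C)).index = 4 := by
    rw [hnum] at hcong
    have h5 := Nat.le_of_dvd (by norm_num) hdvd
    obtain ⟨i, hi⟩ : ∃ i, i = (normalizer ((P : Subgroup C) : Set C)).index := ⟨_, rfl⟩
    rw [← hi] at hcong hdvd hne1 h5 ⊢
    interval_cases i
    · omega
    · omega
    · exact absurd hcong (by decide)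
    · omega
    · rfl
  have heq : normalizer ((P : Subgroup C) : Set C) = P := by
    refine (eq_of_le_of_card_ge hle ?_).symm
    have := (normalizer ((P : Subgroup C) : Set C)).card_mul_index
    rw [hC, h4] at this
    have h2 : Nat.card (P : Subgroup C) = 9 := hP
    omega
  have hcent : normalizer ((P : Subgroup C) : Set C) ≤ centralizer ((P : Subgroup C) : Set C) := by
    rw [heq]
    intro x hx
    rw [mem_centralizer_iff]
    intro y hy
    exact hab y hy x hx
  exact ⟨P, _, inferInstance, MonoidHom.ker_transferSylow_isComplement' P hcent⟩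

theorem three_el {X : Type*} [Group X] [Finite X] (h9 : ¬ 27 ∣ Nat.card X)
    (hexp : ∀ x : X, orderOf x ≠ 9) {g : X} (hg : El 3 g) : orderOf g = 3 := by
  obtain ⟨⟨k, hk⟩, h1⟩ := hg
  have hk2 : k ≤ 2 := by
    by_contra hcon
    apply h9
    have h3 : 3 ^ 3 ∣ Nat.card X := (pow_dvd_pow 3 (by omega : 3 ≤ k)).trans (hk ▸ orderOf_dvd_natCard g)
    simpa using h3
  interval_cases k
  · exact absurd (orderOf_eq_one_iff.1 hk) h1
  · simpa using hk
  · exact absurd (by simpa using hk) (hexp g)

/-- `5 ≤ l(B₀(M22))`, `p = 3` -/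
theorem rank_M22 {M : Ideal AlgInt} (hM : IsPModular 3 M) : 5 ≤ blockRank 3 (principalBlock M Spor.M22) := by
  classical
  have h3 : Fact (Nat.Prime 3) := ⟨Nat.prime_three⟩
  obtain ⟨hcard, ⟨s, t, g, hs, ht, hst, hne, hcs, hconj, hgs, hgt⟩, -, -⟩ := Cfsg.Agent.H968.TwoM22.three
  have hfin : Finite Spor.M22 := Nat.finite_of_card_ne_zero (by rw [hcard]; norm_num)
  -- the subgroup `E = ⟨s, t⟩`
  have hs3 : s ^ 3 = 1 := by rw [← hs]; exact pow_orderOf_eq_one s
  have ht3 : t ^ 3 = 1 := by rw [← ht]; exact pow_orderOf_eq_one t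
  obtain ⟨E, hE, hmem⟩ := Cfsg.Agent.H968.TwoM22.exists_E hs3 ht3 hst hne
  have h27 : ¬ 27 ∣ Nat.card Spor.M22 := by rw [hcard]; norm_num
  have hsE : s ∈ E := (hmem s).2 ⟨1, by norm_num, 0, by norm_num, by simp⟩
  have htE : t ∈ E := (hmem t).2 ⟨0, by norm_num, 1, by norm_num, by simp⟩
  have hEc : ∀ x ∈ E, ∀ y ∈ E, x * y = y * x := by
    intro x hx y hy
    obtain ⟨i, -, j, -, rfl⟩ := (hmem x).1 hx
    obtain ⟨k, -, l, -, rfl⟩ := (hmem y).1 hy
    have hc : Commute s t := hst
    exact (((Commute.refl s).pow_pow i k).mul_left (hc.symm.pow_pow j k)).mul_right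
      ((hc.pow_pow i l).mul_left ((Commute.refl t).pow_pow j l))
  have hEle : E ≤ centralizer ({s} : Set Spor.M22) := fun x hx =>
    mem_centralizer_singleton_iff.2 (hEc x hx s hsE)
  -- no elements of order nine
  have hexp : ∀ x : Spor.M22, orderOf x ≠ 9 := by
    intro x hx
    have hpg : IsPGroup 3 (zpowers x) := IsPGroup.of_card (n := 2) (by rw [Nat.card_zpowers, hx]; norm_num)
    obtain ⟨c, hc⟩ := Cfsg.Agent.H968.TwoM22.conj_nine h27 hE hpg
    have h1 := hc x (mem_zpowers x)
    obtain ⟨i, -, j, -, h2⟩ := (hmem _).1 h1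
    have h4 : (c * x * c⁻¹) ^ 3 = 1 := by
      rw [h2, (show Commute (s ^ i) (t ^ j) from Commute.pow_pow (show Commute s t from hst) i j).mul_pow, ← pow_mul,
        ← pow_mul, mul_comm i, mul_comm j, pow_mul, pow_mul, hs3, ht3, one_pow, one_pow, one_mul]
    have h5 : orderOf (c * x * c⁻¹) = 9 := by
      rw [← hx]
      exact (orderOf_injective (MulAut.conj c).toMonoidHom (MulAut.conj c).injective x)
    have h6 := orderOf_dvd_of_pow_eq_one h4
    rw [h5] at h6
    norm_num at h6
  have h := Cfsg.Agent.H80.K6.six_le_rank_add (p := 3) (by norm_num) hM (Q := Spor.M22) (by rw [hcard]; norm_num) {s}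
    (fun x hx => ⟨s, Finset.mem_singleton_self s, (hconj x (three_el h27 hexp hx)).symm⟩)
    (fun x hx => by
      rw [Finset.mem_singleton.1 hx]
      -- the Sylow subgroup of the centralizer
      have hcE : Nat.card (E.subgroupOf (centralizer ({s} : Set Spor.M22))) = 3 ^ (Nat.card ↥(centralizer ({s} : Set Spor.M22))).factorization 3 := by
        rw [Nat.card_congr (subgroupOfEquivOfLe hEle).toEquiv, hE, hcs]
        have : Nat.factorization 36 3 = 2 := by
          rw [show 36 = 3 ^ 2 * 4 by norm_num, Nat.factorization_mul (by norm_num) (by norm_num)]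
          simp only [Finsupp.coe_add, Pi.add_apply, Nat.Prime.factorization_pow Nat.prime_three, Finsupp.single_eq_same]
          rw [Nat.factorization_eq_zero_of_not_dvd (by norm_num)]
        rw [this]
        norm_num
      refine compl_36 hcs (Sylow.ofCard _ hcE) ?_ ?_
      · intro x hx y hy
        exact Subtype.ext (hEc x (mem_subgroupOf.1 hx) y (mem_subgroupOf.1 hy))
      · intro hnorm
        have h5 := hnorm.conj_mem ⟨t, mem_centralizer_singleton_iff.2 (hEc t htE s hsE)⟩ (mem_subgroupOf.2 htE)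
          ⟨g, mem_centralizer_singleton_iff.2 hgs⟩
        have h6 : g * t * g⁻¹ ∈ E := mem_subgroupOf.1 h5
        obtain ⟨i, hi, j, hj, h7⟩ := (hmem _).1 h6
        exact hgt i hi j hj (by rw [← h7, inv_mul_cancel_right]))
  rw [Finset.card_singleton] at h
  omega

end Cfsg.Agent.H774.SP.M22
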