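import Mathlib
import Cfsg.Agent.LThreeCo1.Ev

/-!
# Elements of `McL` for the prime 3 (helper774)

`R1`, `R4` of order 3 and traces `-3`, `6`; `R2`, `R5` involutions commuting with them; `R3`, `R6` of order 3 commuting with
them and inverted by the involutions; `R7` of order 9.  Generated by a script; checked by the kernel.
-/

set_option autoImplicit false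
set_option maxRecDepth 20000

namespace Cfsg.Agent.H774.SP.Mat

open Cfsg.Agent.LThreeCo1.Ev Cfsg.Agent.SporadicStructure.Co0Matrix Cfsg.Agent.CoOneType.CoEval

/-- matrix (times 8) -/
def R1 : List (List ℤ) := [
  [5, 1, -1, -1, -1, -1, 1, -1, -1, 1, -1, -1, -1, -3, -1, -1, 1, -1, -1, 1, 1, -1, -1, 3],
  [-1, -1, 1, -3, 1, 1, -1, 1, 1, -1, 1, 1, 1, -1, -3, 1, 3, 1, 1, 3, -1, -3, 1, 1],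
  [-1, -1, -3, 1, 1, -3, -1, 1, -3, -1, 1, 1, 1, -1, 1, 1, -1, 1, 1, 3, 3, 1, 1, 1],
  [-1, 3, 1, -3, 1, 1, 3, 1, -3, -1, -3, 1, 1, -1, 1, 1, -1, 1, 1, -1, -1, 1, 1, 1],
  [-1, -1, 1, 1, -3, 1, -1, -3, 1, 3, -3, 1, 1, -1, 1, 1, -1, 1, 1, 3, -1, 1, 1, 1],
  [1, 1, 3, -1, -1, -1, 1, -1, -1, 1, 3, -1, 3, 1, -1, -1, 1, 3, -1, 1, 1, 3, -1, -1],
  [-1, -1, 1, -3, 1, 1, -1, 1, 1, 3, 1, 1, 1, -1, 1, 1, -1, -3, 1, -1, 3, 1, -3, 1],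
  [1, 1, -1, -1, 3, -1, 1, -1, 3, 1, -1, 3, -1, 1, 3, -1, 1, 3, -1, 1, 1, -1, -1, -1],
  [1, 1, 3, 3, -1, -1, 1, 3, -1, 1, -1, 3, -1, 1, -1, 3, 1, -1, -1, 1, 1, -1, -1, -1],
  [-1, -1, 1, 1, -3, 1, 3, 1, 1, -1, 1, 1, 1, -1, 1, -3, -1, 1, 1, -1, 3, -3, 1, 1],
  [1, 1, -1, 3, 3, 3, 1, -1, -1, 1, -1, -1, 3, 1, -1, -1, 1, -1, 3, 1, 1, -1, -1, -1],
  [1, 1, -1, -1, -1, -1, 1, 3, 3, 1, -1, -1, -1, 1, -1, -1, 1, -1, 3, 1, 1, 3, 3, -1],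
  [1, 1, -1, -1, -1, 3, 1, -1, -1, 1, 3, -1, -1, 1, 3, 3, 1, -1, -1, 1, 1, -1, 3, -1],
  [-3, 1, -1, -1, -1, -1, 1, -1, -1, 1, -1, -1, -1, 5, -1, -1, 1, -1, -1, 1, 1, -1, -1, 3],
  [-1, 3, 1, 1, 1, 1, -1, -3, 1, -1, 1, 1, -3, -1, -3, 1, -1, 1, 1, -1, 3, 1, 1, 1],
  [-1, -1, 1, 1, 1, 1, -1, 1, -3, 3, 1, 1, -3, -1, 1, -3, 3, 1, 1, -1, -1, 1, 1, 1],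
  [-1, 3, 1, 1, 1, 1, -1, 1, 1, -1, 1, 1, 1, -1, 1, -3, -1, -3, -3, 3, -1, 1, 1, 1],
  [-1, -1, 1, 1, 1, -3, 3, -3, 1, -1, 1, 1, 1, -1, 1, 1, 3, -3, 1, -1, -1, 1, 1, 1],
  [-1, -1, 1, 1, 1, 1, -1, 1, 1, -1, -3, -3, 1, -1, 1, 1, 3, 1, -3, -1, 3, 1, 1, 1],
  [-1, 3, -3, 1, -3, 1, -1, 1, 1, -1, 1, 1, 1, -1, 1, 1, 3, 1, 1, -1, -1, 1, -3, 1],
  [-1, -1, -3, 1, 1, 1, 3, 1, 1, 3, 1, 1, 1, -1, -3, 1, -1, 1, -3, -1, -1, 1, 1, 1],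
  [-1, 3, 1, 1, 1, -3, -1, 1, 1, 3, 1, -3, 1, -1, 1, 1, -1, 1, 1, -1, -1, -3, 1, 1],
  [-1, -1, 1, 1, 1, 1, 3, 1, 1, -1, 1, -3, -3, -1, 1, 1, -1, 1, 1, 3, -1, 1, -3, 1],
  [3, -1, 1, 1, 1, 1, -1, 1, 1, -1, 1, 1, 1, 3, 1, 1, -1, 1, 1, -1, -1, 1, 1, 5]]

theorem ok1 : Ok R1 (tr R1) := Cfsg.Agent.CoOneType.CoFast.ok_of_okZ (by decide +kernel)

/-- matrix (times 8) -/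
def R2 : List (List ℤ) := [
  [6, 0, 0, 0, -2, 0, 2, 0, 0, 0, 0, 0, 0, -2, 0, -2, 0, 0, 0, 0, -2, -2, 0, 2],
  [0, 2, 2, -2, 0, 2, 0, 2, -2, -2, 2, 2, -2, 0, 2, 0, 2, 2, -2, 2, 0, 0, -2, 0],
  [0, 2, 2, 2, 0, -2, 0, -2, -2, 2, -2, 2, 2, 0, 2, 0, 2, 2, 2, -2, 0, 0, -2, 0],
  [0, -2, 2, 2, 0, 2, 0, 2, 2, -2, -2, -2, 2, 0, 2, 0, 2, 2, -2, -2, 0, 0, 2, 0],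
  [-2, 0, 0, 0, 6, 0, 2, 0, 0, 0, 0, 0, 0, -2, 0, -2, 0, 0, 0, 0, -2, -2, 0, 2],
  [0, 2, -2, 2, 0, 2, 0, -2, 2, 2, 2, -2, 2, 0, 2, 0, -2, 2, -2, 2, 0, 0, -2, 0],
  [2, 0, 0, 0, 2, 0, 6, 0, 0, 0, 0, 0, 0, 2, 0, 2, 0, 0, 0, 0, 2, 2, 0, -2],
  [0, 2, -2, 2, 0, -2, 0, 2, 2, 2, 2, 2, -2, 0, 2, 0, 2, -2, -2, -2, 0, 0, 2, 0],
  [0, -2, -2, 2, 0, 2, 0, 2, 2, 2, -2, 2, -2, 0, -2, 0, 2, 2, 2, 2, 0, 0, -2, 0],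
  [0, -2, 2, -2, 0, 2, 0, 2, 2, 2, 2, 2, 2, 0, 2, 0, -2, -2, 2, -2, 0, 0, -2, 0],
  [0, 2, -2, -2, 0, 2, 0, 2, -2, 2, 2, -2, 2, 0, -2, 0, 2, 2, 2, -2, 0, 0, 2, 0],
  [0, 2, 2, -2, 0, -2, 0, 2, 2, 2, -2, 2, 2, 0, -2, 0, -2, 2, -2, 2, 0, 0, 2, 0],
  [0, -2, 2, 2, 0, 2, 0, -2, -2, 2, 2, 2, 2, 0, -2, 0, 2, -2, -2, 2, 0, 0, 2, 0],
  [-2, 0, 0, 0, -2, 0, 2, 0, 0, 0, 0, 0, 0, 6, 0, -2, 0, 0, 0, 0, -2, -2, 0, 2],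
  [0, 2, 2, 2, 0, 2, 0, 2, -2, 2, -2, -2, -2, 0, 2, 0, -2, -2, 2, 2, 0, 0, 2, 0],
  [-2, 0, 0, 0, -2, 0, 2, 0, 0, 0, 0, 0, 0, -2, 0, -2, 0, 0, 0, 0, -2, 6, 0, 2],
  [0, 2, 2, 2, 0, -2, 0, 2, 2, -2, 2, -2, 2, 0, -2, 0, 2, -2, 2, 2, 0, 0, -2, 0],
  [0, 2, 2, 2, 0, 2, 0, -2, 2, -2, 2, 2, -2, 0, -2, 0, -2, 2, 2, -2, 0, 0, 2, 0],
  [0, -2, 2, -2, 0, -2, 0, -2, 2, 2, 2, -2, -2, 0, 2, 0, 2, 2, 2, 2, 0, 0, 2, 0],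
  [0, 2, -2, -2, 0, 2, 0, -2, 2, -2, -2, 2, 2, 0, 2, 0, 2, -2, 2, 2, 0, 0, 2, 0],
  [-2, 0, 0, 0, -2, 0, 2, 0, 0, 0, 0, 0, 0, -2, 0, -2, 0, 0, 0, 0, 6, -2, 0, 2],
  [-2, 0, 0, 0, -2, 0, 2, 0, 0, 0, 0, 0, 0, -2, 0, 6, 0, 0, 0, 0, -2, -2, 0, 2],
  [0, -2, -2, 2, 0, -2, 0, 2, -2, -2, 2, 2, 2, 0, 2, 0, -2, 2, 2, 2, 0, 0, 2, 0],
  [2, 0, 0, 0, 2, 0, -2, 0, 0, 0, 0, 0, 0, 2, 0, 2, 0, 0, 0, 0, 2, 2, 0, 6]]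

theorem ok2 : Ok R2 (tr R2) := Cfsg.Agent.CoOneType.CoFast.ok_of_okZ (by decide +kernel)

/-- matrix (times 8) -/
def R3 : List (List ℤ) := [
  [6, 0, -2, -2, 0, 0, 0, -2, 0, 0, 0, 2, 0, -2, 0, -2, 0, 0, 0, 0, 0, 0, 0, 2],
  [0, 2, 0, 0, -2, 2, -2, 0, 2, 2, 2, 0, -2, 0, -2, 0, 2, 2, -2, 2, -2, 2, 2, 0],
  [0, -2, 0, 0, 2, -2, 2, 0, -2, 2, -2, 0, 2, 0, -2, 0, 2, 2, 2, 2, -2, 2, 2, 0],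
  [0, 2, 0, 0, 2, 2, -2, 0, -2, 2, -2, 0, -2, 0, 2, 0, -2, -2, 2, 2, 2, 2, 2, 0],
  [0, 2, 0, 0, 2, -2, -2, 0, 2, 2, 2, 0, 2, 0, 2, 0, -2, 2, 2, -2, -2, -2, 2, 0],
  [0, 2, 0, 0, 2, 2, 2, 0, -2, -2, 2, 0, 2, 0, -2, 0, -2, 2, -2, 2, 2, -2, 2, 0],
  [0, 2, 0, 0, -2, 2, 2, 0, 2, 2, -2, 0, 2, 0, -2, 0, -2, 2, 2, -2, 2, 2, -2, 0],
  [-2, 0, -2, -2, 0, 0, 0, 6, 0, 0, 0, 2, 0, -2, 0, -2, 0, 0, 0, 0, 0, 0, 0, 2],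
  [2, 0, 2, 2, 0, 0, 0, 2, 0, 0, 0, 6, 0, 2, 0, 2, 0, 0, 0, 0, 0, 0, 0, -2],
  [0, -2, 0, 0, 2, 2, 2, 0, 2, 2, 2, 0, -2, 0, -2, 0, 2, -2, 2, -2, 2, -2, 2, 0],
  [0, 2, 0, 0, 2, 2, 2, 0, -2, 2, 2, 0, 2, 0, 2, 0, 2, -2, -2, -2, -2, 2, -2, 0],
  [0, 2, 0, 0, 2, -2, 2, 0, 2, 2, -2, 0, -2, 0, 2, 0, 2, 2, -2, 2, 2, -2, -2, 0],
  [0, -2, 0, 0, -2, 2, -2, 0, -2, 2, 2, 0, 2, 0, 2, 0, 2, 2, 2, 2, 2, -2, -2, 0],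
  [-2, 0, -2, -2, 0, 0, 0, -2, 0, 0, 0, 2, 0, 6, 0, -2, 0, 0, 0, 0, 0, 0, 0, 2],
  [0, -2, 0, 0, 2, 2, -2, 0, 2, -2, -2, 0, 2, 0, 2, 0, 2, 2, -2, -2, 2, 2, 2, 0],
  [0, 2, 0, 0, -2, -2, 2, 0, -2, -2, 2, 0, -2, 0, 2, 0, 2, 2, 2, -2, 2, 2, 2, 0],
  [0, 2, 0, 0, 2, -2, -2, 0, 2, -2, 2, 0, 2, 0, -2, 0, 2, -2, 2, 2, 2, 2, -2, 0],
  [0, -2, 0, 0, 2, 2, 2, 0, 2, -2, 2, 0, -2, 0, 2, 0, -2, 2, 2, 2, -2, 2, -2, 0],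
  [-2, 0, 6, -2, 0, 0, 0, -2, 0, 0, 0, 2, 0, -2, 0, -2, 0, 0, 0, 0, 0, 0, 0, 2],
  [0, 2, 0, 0, -2, 2, 2, 0, 2, -2, -2, 0, 2, 0, 2, 0, 2, -2, 2, 2, -2, -2, 2, 0],
  [0, -2, 0, 0, -2, -2, 2, 0, 2, 2, 2, 0, 2, 0, 2, 0, -2, -2, -2, 2, 2, 2, 2, 0],
  [-2, 0, -2, -2, 0, 0, 0, -2, 0, 0, 0, 2, 0, -2, 0, 6, 0, 0, 0, 0, 0, 0, 0, 2],
  [-2, 0, -2, 6, 0, 0, 0, -2, 0, 0, 0, 2, 0, -2, 0, -2, 0, 0, 0, 0, 0, 0, 0, 2],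
  [2, 0, 2, 2, 0, 0, 0, 2, 0, 0, 0, -2, 0, 2, 0, 2, 0, 0, 0, 0, 0, 0, 0, 6]]

theorem ok3 : Ok R3 (tr R3) := Cfsg.Agent.CoOneType.CoFast.ok_of_okZ (by decide +kernel)

/-- matrix (times 8) -/
def R4 : List (List ℤ) := [
  [5, 1, -1, 1, -1, -1, -3, 1, -1, -1, -1, -1, -1, -1, -1, 1, -1, 1, -1, -1, 1, -1, -1, 3],
  [-1, -1, -3, -1, 1, 1, -1, -1, -3, 1, 1, 1, 1, 1, 1, 3, 1, 3, 1, 1, -1, 1, -3, 1],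
  [-1, 3, 1, -1, 1, -3, -1, -1, 1, 1, 1, 1, 1, 1, 1, -1, 1, -1, -3, 1, 3, 1, -3, 1],
  [-1, -1, -3, 3, 1, 1, -1, -1, 1, 1, 1, 1, -3, 1, 1, -1, -3, -1, 1, 1, 3, 1, 1, 1],
  [-1, -1, 1, 3, 1, -3, -1, -1, 1, -3, 1, 1, 1, 1, 1, 3, 1, -1, 1, -3, -1, 1, 1, 1],
  [1, 1, -1, 1, -1, 3, 1, 1, 3, -1, -1, -1, 3, -1, 3, 1, -1, 1, -1, -1, 1, 3, -1, -1],
  [-3, 1, -1, 1, -1, -1, 5, 1, -1, -1, -1, -1, -1, -1, -1, 1, -1, 1, -1, -1, 1, -1, -1, 3],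
  [-1, -1, 1, 3, -3, 1, -1, 3, 1, 1, 1, 1, 1, 1, -3, -1, 1, -1, 1, 1, -1, 1, -3, 1],
  [-1, 3, -3, -1, 1, 1, -1, 3, 1, 1, 1, 1, 1, 1, 1, -1, 1, -1, 1, -3, -1, -3, 1, 1],
  [-1, -1, 1, -1, 1, 1, -1, 3, 1, 1, -3, 1, -3, 1, 1, 3, 1, -1, -3, 1, -1, 1, 1, 1],
  [1, 1, 3, 1, 3, 3, 1, 1, -1, -1, 3, 3, -1, -1, -1, 1, -1, 1, -1, -1, 1, -1, -1, -1],
  [-1, -1, 1, -1, 1, -3, -1, 3, 1, 1, 1, 1, 1, -3, 1, -1, -3, 3, 1, 1, -1, 1, 1, 1],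
  [-1, -1, 1, -1, -3, 1, -1, -1, 1, 1, 1, 1, 1, -3, 1, 3, 1, -1, 1, 1, 3, -3, 1, 1],
  [1, 1, 3, 1, -1, -1, 1, 1, -1, 3, -1, -1, -1, 3, 3, 1, -1, 1, 3, -1, 1, -1, -1, -1],
  [-1, -1, 1, 3, 1, 1, -1, -1, 1, 1, 1, -3, 1, 1, 1, -1, 1, 3, -3, 1, -1, -3, 1, 1],
  [-1, 3, 1, -1, -3, 1, -1, -1, 1, -3, 1, 1, -3, 1, 1, -1, 1, 3, 1, 1, -1, 1, 1, 1],
  [-1, -1, 1, -1, 1, 1, -1, -1, 1, 1, -3, 1, 1, 1, -3, -1, 1, 3, 1, -3, 3, 1, 1, 1],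
  [-1, 3, 1, -1, 1, 1, -1, -1, 1, 1, 1, -3, 1, 1, -3, 3, -3, -1, 1, 1, -1, 1, 1, 1],
  [1, 1, -1, 1, 3, -1, 1, 1, 3, -1, -1, -1, -1, -1, -1, 1, 3, 1, 3, 3, 1, -1, -1, -1],
  [1, 1, -1, 1, -1, -1, 1, 1, -1, -1, -1, 3, 3, 3, -1, 1, -1, 1, -1, 3, 1, -1, 3, -1],
  [-1, -1, 1, -1, 1, 1, -1, 3, -3, -3, 1, -3, 1, 1, 1, -1, 1, -1, 1, 1, 3, 1, 1, 1],
  [1, 1, -1, 1, -1, -1, 1, 1, -1, 3, 3, -1, -1, -1, -1, 1, 3, 1, -1, -1, 1, 3, 3, -1],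
  [-1, 3, 1, 3, 1, 1, -1, -1, -3, 1, -3, 1, 1, -3, 1, -1, 1, -1, 1, 1, -1, 1, 1, 1],
  [3, -1, 1, -1, 1, 1, 3, -1, 1, 1, 1, 1, 1, 1, 1, -1, 1, -1, 1, 1, -1, 1, 1, 5]]

theorem ok4 : Ok R4 (tr R4) := Cfsg.Agent.CoOneType.CoFast.ok_of_okZ (by decide +kernel)

/-- matrix (times 8) -/
def R5 : List (List ℤ) := [
  [6, 0, 0, 2, 0, 0, 0, 0, 0, -2, 0, 0, 0, -2, 0, 0, 0, -2, 0, 0, -2, 0, -2, 2],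
  [0, 2, -2, 0, -2, -2, 2, -2, 2, 0, 2, 2, 2, 0, 2, 2, -2, 0, 2, -2, 0, 2, 0, 0],
  [0, -2, 2, 0, 2, 2, 2, -2, 2, 0, -2, 2, 2, 0, -2, -2, 2, 0, 2, -2, 0, 2, 0, 0],
  [2, 0, 0, 6, 0, 0, 0, 0, 0, 2, 0, 0, 0, 2, 0, 0, 0, 2, 0, 0, 2, 0, 2, -2],
  [0, -2, 2, 0, 2, -2, -2, -2, 2, 0, 2, -2, -2, 0, 2, 2, 2, 0, 2, 2, 0, 2, 0, 0],
  [0, -2, 2, 0, -2, 2, 2, 2, -2, 0, 2, 2, -2, 0, -2, 2, -2, 0, 2, 2, 0, 2, 0, 0],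
  [0, 2, 2, 0, -2, 2, 2, -2, -2, 0, -2, -2, 2, 0, 2, 2, 2, 0, -2, 2, 0, 2, 0, 0],
  [0, -2, -2, 0, -2, 2, -2, 2, 2, 0, 2, 2, 2, 0, 2, -2, 2, 0, -2, 2, 0, 2, 0, 0],
  [0, 2, 2, 0, 2, -2, -2, 2, 2, 0, -2, 2, 2, 0, -2, 2, -2, 0, -2, 2, 0, 2, 0, 0],
  [-2, 0, 0, 2, 0, 0, 0, 0, 0, 6, 0, 0, 0, -2, 0, 0, 0, -2, 0, 0, -2, 0, -2, 2],
  [0, 2, -2, 0, 2, 2, -2, 2, -2, 0, 2, -2, 2, 0, -2, 2, 2, 0, 2, -2, 0, 2, 0, 0],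
  [0, 2, 2, 0, -2, 2, -2, 2, 2, 0, -2, 2, -2, 0, 2, 2, 2, 0, 2, -2, 0, -2, 0, 0],
  [0, 2, 2, 0, -2, -2, 2, 2, 2, 0, 2, -2, 2, 0, -2, -2, 2, 0, 2, 2, 0, -2, 0, 0],
  [-2, 0, 0, 2, 0, 0, 0, 0, 0, -2, 0, 0, 0, -2, 0, 0, 0, -2, 0, 0, -2, 0, 6, 2],
  [0, 2, -2, 0, 2, -2, 2, 2, -2, 0, -2, 2, -2, 0, 2, -2, 2, 0, 2, 2, 0, 2, 0, 0],
  [0, 2, -2, 0, 2, 2, 2, -2, 2, 0, 2, 2, -2, 0, -2, 2, 2, 0, -2, 2, 0, -2, 0, 0],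
  [0, -2, 2, 0, 2, -2, 2, 2, -2, 0, 2, 2, 2, 0, 2, 2, 2, 0, -2, -2, 0, -2, 0, 0],
  [-2, 0, 0, 2, 0, 0, 0, 0, 0, -2, 0, 0, 0, -2, 0, 0, 0, 6, 0, 0, -2, 0, -2, 2],
  [0, 2, 2, 0, 2, 2, -2, -2, -2, 0, 2, 2, 2, 0, 2, -2, -2, 0, 2, 2, 0, -2, 0, 0],
  [0, -2, -2, 0, 2, 2, 2, 2, 2, 0, -2, -2, 2, 0, 2, 2, -2, 0, 2, 2, 0, -2, 0, 0],
  [-2, 0, 0, 2, 0, 0, 0, 0, 0, -2, 0, 0, 0, -2, 0, 0, 0, -2, 0, 0, 6, 0, -2, 2],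
  [0, 2, 2, 0, 2, 2, 2, 2, 2, 0, 2, -2, -2, 0, 2, -2, -2, 0, -2, -2, 0, 2, 0, 0],
  [-2, 0, 0, 2, 0, 0, 0, 0, 0, -2, 0, 0, 0, 6, 0, 0, 0, -2, 0, 0, -2, 0, -2, 2],
  [2, 0, 0, -2, 0, 0, 0, 0, 0, 2, 0, 0, 0, 2, 0, 0, 0, 2, 0, 0, 2, 0, 2, 6]]

theorem ok5 : Ok R5 (tr R5) := Cfsg.Agent.CoOneType.CoFast.ok_of_okZ (by decide +kernel)

/-- matrix (times 8) -/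
def R6 : List (List ℤ) := [
  [6, 2, 0, 0, 0, 0, 0, 0, 0, 0, 0, 0, 0, -2, 0, -2, 0, -2, -2, -2, 0, 0, 0, 2],
  [0, 0, -2, -2, 2, 2, 2, -2, -2, 2, 2, 2, 2, 0, 2, 0, 2, 0, 0, 0, -2, 2, -2, 0],
  [-2, 2, 0, 0, 0, 0, 0, 0, 0, 0, 0, 0, 0, -2, 0, -2, 0, -2, 6, -2, 0, 0, 0, 2],
  [0, 0, 2, 2, -2, 2, -2, 2, -2, 2, 2, -2, 2, 0, 2, 0, 2, 0, 0, 0, 2, -2, -2, 0],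
  [0, 0, -2, -2, 2, 2, 2, 2, 2, 2, -2, -2, 2, 0, 2, 0, -2, 0, 0, 0, 2, -2, 2, 0],
  [0, 0, 2, -2, -2, 2, 2, 2, -2, 2, 2, 2, -2, 0, -2, 0, -2, 0, 0, 0, 2, 2, 2, 0],
  [2, 6, 0, 0, 0, 0, 0, 0, 0, 0, 0, 0, 0, 2, 0, 2, 0, 2, 2, 2, 0, 0, 0, -2],
  [0, 0, -2, 2, 2, -2, -2, 2, -2, -2, 2, 2, 2, 0, 2, 0, -2, 0, 0, 0, 2, 2, 2, 0],
  [-2, 2, 0, 0, 0, 0, 0, 0, 0, 0, 0, 0, 0, -2, 0, -2, 0, -2, -2, 6, 0, 0, 0, 2],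
  [0, 0, 2, 2, 2, -2, 2, -2, 2, 2, 2, 2, 2, 0, -2, 0, -2, 0, 0, 0, 2, -2, -2, 0],
  [0, 0, -2, 2, -2, 2, 2, -2, 2, -2, 2, -2, 2, 0, -2, 0, 2, 0, 0, 0, 2, 2, 2, 0],
  [0, 0, 2, 2, 2, 2, 2, -2, -2, -2, -2, 2, -2, 0, 2, 0, 2, 0, 0, 0, 2, -2, 2, 0],
  [0, 0, 2, 2, 2, -2, 2, 2, -2, 2, -2, -2, 2, 0, -2, 0, 2, 0, 0, 0, -2, 2, 2, 0],
  [0, 0, 2, -2, 2, 2, -2, 2, 2, -2, 2, 2, 2, 0, -2, 0, 2, 0, 0, 0, -2, -2, 2, 0],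
  [0, 0, 2, -2, -2, -2, 2, 2, 2, -2, -2, 2, 2, 0, 2, 0, 2, 0, 0, 0, 2, 2, -2, 0],
  [-2, 2, 0, 0, 0, 0, 0, 0, 0, 0, 0, 0, 0, -2, 0, 6, 0, -2, -2, -2, 0, 0, 0, 2],
  [0, 0, -2, 2, -2, -2, 2, 2, 2, 2, 2, 2, -2, 0, 2, 0, 2, 0, 0, 0, -2, -2, 2, 0],
  [-2, 2, 0, 0, 0, 0, 0, 0, 0, 0, 0, 0, 0, -2, 0, -2, 0, 6, -2, -2, 0, 0, 0, 2],
  [0, 0, 2, 2, -2, 2, -2, -2, 2, 2, -2, 2, 2, 0, 2, 0, -2, 0, 0, 0, -2, 2, 2, 0],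
  [0, 0, 2, -2, 2, -2, -2, -2, 2, 2, 2, -2, -2, 0, 2, 0, 2, 0, 0, 0, 2, 2, 2, 0],
  [0, 0, -2, 2, 2, 2, -2, 2, 2, 2, -2, 2, -2, 0, -2, 0, 2, 0, 0, 0, 2, 2, -2, 0],
  [0, 0, 2, 2, 2, 2, 2, 2, 2, -2, 2, -2, -2, 0, 2, 0, -2, 0, 0, 0, -2, 2, -2, 0],
  [-2, 2, 0, 0, 0, 0, 0, 0, 0, 0, 0, 0, 0, 6, 0, -2, 0, -2, -2, -2, 0, 0, 0, 2],
  [2, -2, 0, 0, 0, 0, 0, 0, 0, 0, 0, 0, 0, 2, 0, 2, 0, 2, 2, 2, 0, 0, 0, 6]]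

theorem ok6 : Ok R6 (tr R6) := Cfsg.Agent.CoOneType.CoFast.ok_of_okZ (by decide +kernel)

/-- matrix (times 8) -/
def R7 : List (List ℤ) := [
  [6, 0, 0, 0, 0, 0, -2, 0, 0, 0, -2, 0, 0, 0, -2, 0, 0, -2, 0, -2, 2, 0, 0, 2],
  [0, 2, 2, 2, -2, -2, 0, -2, 2, 2, 0, -2, 2, -2, 0, 2, 2, 0, 2, 0, 0, 2, -2, 0],
  [0, 2, 2, 2, 2, -2, 0, 2, -2, -2, 0, 2, 2, 2, 0, -2, 2, 0, 2, 0, 0, -2, -2, 0],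
  [0, -2, 2, 2, -2, 2, 0, 2, -2, -2, 0, 2, 2, -2, 0, 2, 2, 0, -2, 0, 0, 2, 2, 0],
  [0, 2, 2, -2, -2, 2, 0, 2, 2, 2, 0, 2, 2, 2, 0, 2, -2, 0, -2, 0, 0, -2, -2, 0],
  [-2, 0, 0, 0, 0, 0, 6, 0, 0, 0, -2, 0, 0, 0, -2, 0, 0, -2, 0, -2, 2, 0, 0, 2],
  [0, 2, 2, -2, 2, 2, 0, 2, -2, 2, 0, -2, -2, -2, 0, 2, 2, 0, 2, 0, 0, -2, 2, 0],
  [0, 2, -2, 2, -2, 2, 0, 2, -2, 2, 0, -2, 2, 2, 0, -2, -2, 0, 2, 0, 0, 2, 2, 0],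
  [0, -2, 2, 2, 2, 2, 0, 2, 2, -2, 0, -2, -2, 2, 0, 2, -2, 0, 2, 0, 0, 2, -2, 0],
  [0, 2, 2, 2, 2, -2, 0, -2, -2, 2, 0, 2, -2, 2, 0, 2, -2, 0, -2, 0, 0, 2, 2, 0],
  [0, -2, -2, -2, 2, 2, 0, -2, -2, 2, 0, 2, 2, 2, 0, 2, 2, 0, 2, 0, 0, 2, -2, 0],
  [-2, 0, 0, 0, 0, 0, -2, 0, 0, 0, -2, 0, 0, 0, -2, 0, 0, -2, 0, 6, 2, 0, 0, 2],
  [-2, 0, 0, 0, 0, 0, -2, 0, 0, 0, 6, 0, 0, 0, -2, 0, 0, -2, 0, -2, 2, 0, 0, 2],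
  [0, 2, 2, -2, -2, 2, 0, -2, 2, -2, 0, 2, -2, 2, 0, -2, 2, 0, 2, 0, 0, 2, 2, 0],
  [0, -2, 2, 2, 2, 2, 0, -2, 2, 2, 0, -2, 2, 2, 0, -2, 2, 0, -2, 0, 0, -2, 2, 0],
  [-2, 0, 0, 0, 0, 0, -2, 0, 0, 0, -2, 0, 0, 0, -2, 0, 0, 6, 0, -2, 2, 0, 0, 2],
  [0, 2, -2, 2, 2, 2, 0, -2, 2, -2, 0, 2, 2, -2, 0, 2, -2, 0, 2, 0, 0, -2, 2, 0],
  [2, 0, 0, 0, 0, 0, 2, 0, 0, 0, 2, 0, 0, 0, 2, 0, 0, 2, 0, 2, 6, 0, 0, -2],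
  [0, 2, -2, -2, 2, -2, 0, 2, 2, -2, 0, -2, 2, 2, 0, 2, 2, 0, -2, 0, 0, 2, 2, 0],
  [0, 2, -2, 2, 2, 2, 0, 2, 2, 2, 0, 2, -2, -2, 0, -2, 2, 0, -2, 0, 0, 2, -2, 0],
  [-2, 0, 0, 0, 0, 0, -2, 0, 0, 0, -2, 0, 0, 0, 6, 0, 0, -2, 0, -2, 2, 0, 0, 2],
  [0, -2, -2, 2, -2, -2, 0, 2, 2, 2, 0, 2, -2, 2, 0, 2, 2, 0, 2, 0, 0, -2, 2, 0],
  [0, -2, 2, -2, 2, -2, 0, 2, 2, 2, 0, 2, 2, -2, 0, -2, -2, 0, 2, 0, 0, 2, 2, 0],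
  [2, 0, 0, 0, 0, 0, 2, 0, 0, 0, 2, 0, 0, 0, 2, 0, 0, 2, 0, 2, -2, 0, 0, 6]]

theorem ok7 : Ok R7 (tr R7) := Cfsg.Agent.CoOneType.CoFast.ok_of_okZ (by decide +kernel)

/-- the matrices -/
def M : ℕ → List (List ℤ)
  | 1 => R1
  | 2 => R2
  | 3 => R3
  | 4 => R4
  | 5 => R5
  | 6 => R6
  | 7 => R7
  | _ => R1

theorem okM (i : ℕ) : Ok (M i) (tr (M i)) := by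
  unfold M
  split
  · exact ok1
  · exact ok2
  · exact ok3
  · exact ok4
  · exact ok5
  · exact ok6
  · exact ok7
  · exact ok1

end Cfsg.Agent.H774.SP.Mat
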